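import Mathlib
import Cfsg.Agent.Lib.PGroup.UnitAll.Final
import Cfsg.Agent.Lib.SU.CenterCard

/-!
Coordinates for a hyperbolic pair of a three-dimensional unitary space and the action on isotropic points.
-/

set_option autoImplicit false
set_option linter.unusedSectionVars false

namespace CfsgLib.PGroup.UnitThreeIndex

open scoped Matrix
open Matrix CfsgLib.SU CfsgLib.Classical

variable {F : Type*} [Field F] [Fintype F] {q : ℕ} {C : UCtx F q}

set_option quotPrecheck false

local notation "V3" => (Fin 3 → F)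
local notation "G3" => ↥(Cfsg.SU 3 F q)

/-- The action on isotropic points through the projection. -/
noncomputable instance pointAct : MulAction ↥(Cfsg.SU 3 F q) (UPoint C 3) := MulAction.compHom _ pr

theorem smul_pt (g : G3) (v : V3) (hv : C.form v v = 0) (hv0 : v ≠ 0) :
    g • upt C v hv hv0 = upt C (g.1.1 *ᵥ v) (by rw [C.form_su, hv]) (su_mulVec_ne_zero g hv0) :=
  smul_upt C g v hv hv0

theorem smul_pt_eq_iff (g : G3) {v w : V3} (hv : C.form v v = 0) (hv0 : v ≠ 0) (hw : C.form w w = 0)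
    (hw0 : w ≠ 0) : g • upt C v hv hv0 = upt C w hw hw0 ↔ ∃ a : F, g.1.1 *ᵥ v = a • w := by
  rw [smul_pt, upt_eq_iff C (le_refl 3)]

/-- The point of the first vector of a pair. -/
def pt (P : UPair C 3) : UPoint C 3 := upt C P.e P.ee P.e_ne_zero

/-- The point of the second vector of a pair. -/
def pt' (P : UPair C 3) : UPoint C 3 := upt C P.f P.ff P.f_ne_zero

theorem pt_ne (P : UPair C 3) : pt P ≠ pt' P := fun h => by
  obtain ⟨a, ha⟩ := (upt_eq_iff C (le_refl 3) P.ee P.e_ne_zero P.ff P.f_ne_zero).1 h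
  have := P.ef
  rw [ha, C.form_smul_left, P.ff, mul_zero] at this
  exact zero_ne_one this

theorem exists_pt (x : UPoint C 3) : ∃ P : UPair C 3, pt P = x := by
  obtain ⟨v, hv, hv0, rfl⟩ := upt_surj C x
  obtain ⟨P, rfl⟩ := uPair_exists C hv0 hv
  exact ⟨P, rfl⟩

theorem exists_unit (P : UPair C 3) :
    ∃ u : V3, u ∈ P.perp ∧ C.form u u = 1 ∧ ∀ w ∈ P.perp, w = C.form w u • u := by
  obtain ⟨u, hu, huu, hs⟩ := P.exists_basis
  refine ⟨u 0, hu 0, (huu 0 0).trans (if_pos rfl), fun w hw => ?_⟩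
  conv_lhs => rw [hs w hw]
  rw [Fin.sum_univ_one]

/-- A pair with a unit vector of its orthogonal. -/
structure Frame (C : UCtx F q) where
  P : UPair C 3
  u : Fin 3 → F
  hu : u ∈ P.perp
  huu : C.form u u = 1
  span : ∀ w ∈ P.perp, w = C.form w u • u

theorem exists_frame (P : UPair C 3) : ∃ S : Frame C, S.P = P := by
  obtain ⟨u, h1, h2, h3⟩ := exists_unit P
  exact ⟨⟨P, u, h1, h2, h3⟩, rfl⟩

theorem exists_frame_at (x : UPoint C 3) : ∃ S : Frame C, pt S.P = x := by
  obtain ⟨P, rfl⟩ := exists_pt x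
  obtain ⟨S, rfl⟩ := exists_frame P
  exact ⟨S, rfl⟩

namespace Frame

variable (S : Frame C)

theorem ue : C.form S.u S.P.e = 0 := S.hu.1
theorem uf : C.form S.u S.P.f = 0 := S.hu.2
theorem eu : C.form S.P.e S.u = 0 := C.form_swap_zero S.hu.1
theorem fu : C.form S.P.f S.u = 0 := C.form_swap_zero S.hu.2

theorem form_proj (x : V3) : C.form (S.P.proj x) S.u = C.form x S.u := by
  rw [UPair.proj, C.form_sub_left, C.form_sub_left, C.form_smul_left, C.form_smul_left, S.eu, S.fu]
  ring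

theorem decomp (x : V3) :
    x = C.form x S.P.f • S.P.e + C.form x S.P.e • S.P.f + C.form x S.u • S.u := by
  conv_lhs => rw [S.P.decomp x, S.span _ (S.P.proj_mem x), S.form_proj]

theorem vec_ext {x y : V3} (h1 : C.form x S.P.f = C.form y S.P.f) (h2 : C.form x S.P.e = C.form y S.P.e)
    (h3 : C.form x S.u = C.form y S.u) : x = y := by
  rw [S.decomp x, h1, h2, h3, ← S.decomp y]

/-- The three vectors of the frame. -/
def vecs : Fin 3 → V3 := ![S.P.e, S.P.f, S.u]

/-- The determinant of the coordinates of an element is one. -/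
theorem det_coord (g : G3) (A : Matrix (Fin 3) (Fin 3) F)
    (h : ∀ j, g.1.1 *ᵥ S.vecs j = A 0 j • S.P.e + A 1 j • S.P.f + A 2 j • S.u) : A.det = 1 := by
  set M : Matrix (Fin 3) (Fin 3) F := Matrix.of fun i j => S.vecs j i with hM
  have hM0 : M.det ≠ 0 := by
    intro hd
    obtain ⟨c, hc, h0⟩ := Matrix.exists_mulVec_eq_zero_iff.2 hd
    have hs : c 0 • S.P.e + c 1 • S.P.f + c 2 • S.u = 0 := by
      rw [← h0]
      funext i
      simp [hM, Matrix.mulVec, dotProduct, Fin.sum_univ_three, vecs, mul_comm]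
    have k : ∀ z, c 0 * C.form S.P.e z + c 1 * C.form S.P.f z + c 2 * C.form S.u z = 0 := fun z => by
      rw [← C.form_smul_left, ← C.form_smul_left, ← C.form_smul_left, ← C.form_add_left, ← C.form_add_left, hs,
        C.form_zero_left]
    have k0 := k S.P.f
    have k1 := k S.P.e
    have k2 := k S.u
    rw [S.P.ef, S.P.ff, S.uf] at k0
    rw [S.P.ee, S.P.fe, S.ue] at k1
    rw [S.eu, S.fu, S.huu] at k2
    refine hc (funext fun i => ?_)
    fin_cases i
    · simpa using k0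
    · simpa using k1
    · simpa using k2
  have hgM : g.1.1 * M = M * A := by
    ext i j
    have := congrFun (h j) i
    simp only [Matrix.mulVec, dotProduct, Pi.add_apply, Pi.smul_apply, smul_eq_mul] at this
    rw [Matrix.mul_apply, Matrix.mul_apply, Fin.sum_univ_three (f := fun l => M i l * A l j)]
    simp only [hM, Matrix.of_apply] at this ⊢
    rw [this]
    simp [vecs, mul_comm]
  have := congrArg Matrix.det hgM
  rw [Matrix.det_mul, Matrix.det_mul, g.1.2, one_mul] at this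
  exact mul_left_cancel₀ hM0 (this.symm.trans (mul_one _).symm)

/-- An element stabilising the two points acts diagonally. -/
theorem diag_u {g : G3} {a b : F} (he : g.1.1 *ᵥ S.P.e = a • S.P.e) (hf : g.1.1 *ᵥ S.P.f = b • S.P.f) :
    a * C.bar b = 1 ∧ g.1.1 *ᵥ S.u = (C.bar a / a) • S.u := by
  have hab : a * C.bar b = 1 := by
    have := C.form_su g S.P.e S.P.f
    rw [he, hf, C.form_smul_left, C.form_smul_right, S.P.ef, mul_one] at this
    exact this
  refine ⟨hab, ?_⟩
  have ha0 : a ≠ 0 := left_ne_zero_of_mul_eq_one hab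
  have hb0 : C.bar b ≠ 0 := right_ne_zero_of_mul_eq_one hab
  have hb1 : b ≠ 0 := fun h => hb0 (by rw [h, map_zero])
  have hperp : g.1.1 *ᵥ S.u ∈ S.P.perp := by
    constructor
    · have := C.form_su g S.u S.P.e
      rw [he, C.form_smul_right, S.ue] at this
      exact (mul_eq_zero.1 this).resolve_left (by simpa using ha0)
    · have := C.form_su g S.u S.P.f
      rw [hf, C.form_smul_right, S.uf] at this
      exact (mul_eq_zero.1 this).resolve_left hb0
  have hk := S.span _ hperp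
  generalize C.form (g.1.1 *ᵥ S.u) S.u = k at hk
  have hd := S.det_coord g (Matrix.diagonal ![a, b, k]) fun j => by
    fin_cases j <;> simp [vecs, he, hf, hk]
  rw [Matrix.det_diagonal, Fin.prod_univ_three] at hd
  simp at hd
  rw [hk]
  congr 1
  have h1 : b * C.bar a = 1 := by
    have := congrArg C.bar hab
    rwa [map_mul, C.bar_bar, map_one, mul_comm] at this
  field_simp
  linear_combination C.bar a * hd - a * k * h1

theorem diag_eq {g h : G3} {a : F} (he : g.1.1 *ᵥ S.P.e = a • S.P.e) (hf : ∃ b : F, g.1.1 *ᵥ S.P.f = b • S.P.f)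
    (he' : h.1.1 *ᵥ S.P.e = a • S.P.e) (hf' : ∃ b : F, h.1.1 *ᵥ S.P.f = b • S.P.f) : g = h := by
  obtain ⟨b, hf⟩ := hf
  obtain ⟨b', hf'⟩ := hf'
  obtain ⟨h1, hu⟩ := S.diag_u he hf
  obtain ⟨h1', hu'⟩ := S.diag_u he' hf'
  have hb : b = b' := C.bar.injective (mul_left_cancel₀ (left_ne_zero_of_mul_eq_one h1) (h1.trans h1'.symm))
  subst hb
  refine su_ext fun x => ?_
  rw [S.decomp x]
  simp only [Matrix.mulVec_add, Matrix.mulVec_smul, he, he', hf, hf', hu, hu']

/-- The ratio on the first vector. -/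
def rat (g : G3) : F := C.form (g.1.1 *ᵥ S.P.e) S.P.f

theorem rat_eq {g : G3} {a : F} (h : g.1.1 *ᵥ S.P.e = a • S.P.e) : S.rat g = a := by
  rw [rat, h, C.form_smul_left, S.P.ef, mul_one]

theorem mem_stab_iff {g : G3} : g • pt S.P = pt S.P ↔ g.1.1 *ᵥ S.P.e = S.rat g • S.P.e := by
  rw [pt, smul_pt_eq_iff]
  exact ⟨fun ⟨a, ha⟩ => by rw [S.rat_eq ha, ha], fun h => ⟨_, h⟩⟩

theorem rat_ne_zero {g : G3} (h : g • pt S.P = pt S.P) : S.rat g ≠ 0 := fun h0 =>
  su_mulVec_ne_zero g S.P.e_ne_zero (by rw [S.mem_stab_iff.1 h, h0, zero_smul])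

theorem rat_one : S.rat 1 = 1 := S.rat_eq (by rw [su_one_mulVec, one_smul])

theorem rat_mul {g h : G3} (hg : g • pt S.P = pt S.P) (hh : h • pt S.P = pt S.P) :
    S.rat (g * h) = S.rat g * S.rat h := by
  refine S.rat_eq ?_
  rw [suMat_mulVec_mul, S.mem_stab_iff.1 hh, Matrix.mulVec_smul, S.mem_stab_iff.1 hg, smul_smul, mul_comm]

theorem eichGroup_iff {g : G3} : g ∈ S.P.eichGroup ↔ g.1.1 *ᵥ S.P.e = S.P.e := by
  refine ⟨fun ⟨w, hw, t, ht, hg⟩ => hg ▸ S.P.eich_e w hw t ht, fun he => ?_⟩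
  have hfe : C.form (g.1.1 *ᵥ S.P.f) S.P.e = 1 := by
    have := C.form_su g S.P.f S.P.e
    rwa [he, S.P.fe] at this
  obtain ⟨w, hw, t, ht, hv⟩ := S.P.exists_eich_point (v := g.1.1 *ᵥ S.P.f) (by rw [C.form_su, S.P.ff])
    (by rw [hfe]; exact one_ne_zero)
  rw [hfe, one_smul] at hv
  set E := S.P.eich w hw t ht
  have hEe : E.1.1 *ᵥ S.P.e = S.P.e := S.P.eich_e w hw t ht
  have h1 : (E⁻¹ * g).1.1 *ᵥ S.P.e = (1 : F) • S.P.e := by
    rw [suMat_mulVec_mul, he, one_smul]
    conv_lhs => rw [← hEe, su_inv_mulVec]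
  have h2 : (E⁻¹ * g).1.1 *ᵥ S.P.f = (1 : F) • S.P.f := by
    rw [suMat_mulVec_mul, hv, su_inv_mulVec, one_smul]
  have := S.diag_eq h1 ⟨1, h2⟩ (h := 1) (by rw [su_one_mulVec, one_smul]) ⟨1, by rw [su_one_mulVec, one_smul]⟩
  rw [inv_mul_eq_one] at this
  exact this ▸ S.P.eich_mem w hw t ht

/-- The image of the unit vector. -/
theorem mulVec_u {g : G3} {a : F} (he : g.1.1 *ᵥ S.P.e = a • S.P.e) :
    ∃ r : F, g.1.1 *ᵥ S.u = (C.bar a / a) • S.u + r • S.P.e := by
  have ha0 : a ≠ 0 := fun h => su_mulVec_ne_zero g S.P.e_ne_zero (by rw [he, h, zero_smul])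
  have hba : C.bar a ≠ 0 := by simpa using ha0
  have hfe : C.form (g.1.1 *ᵥ S.P.f) S.P.e = (C.bar a)⁻¹ := by
    have := C.form_su g S.P.f S.P.e
    rw [he, C.form_smul_right, S.P.fe] at this
    exact eq_inv_of_mul_eq_one_right this
  obtain ⟨w, hw, t, ht, hv⟩ := S.P.exists_eich_point (v := g.1.1 *ᵥ S.P.f) (by rw [C.form_su, S.P.ff])
    (by rw [hfe]; exact inv_ne_zero hba)
  set E := S.P.eich w hw t ht
  have hEe : E.1.1 *ᵥ S.P.e = S.P.e := S.P.eich_e w hw t ht
  have h1 : (E⁻¹ * g).1.1 *ᵥ S.P.e = a • S.P.e := by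
    rw [suMat_mulVec_mul, he, Matrix.mulVec_smul]
    conv_lhs => rw [← hEe, su_inv_mulVec]
  have h2 : (E⁻¹ * g).1.1 *ᵥ S.P.f = C.form (g.1.1 *ᵥ S.P.f) S.P.e • S.P.f := by
    rw [suMat_mulVec_mul]
    conv_lhs => rw [hv]
    rw [Matrix.mulVec_smul, su_inv_mulVec]
  obtain ⟨-, hu⟩ := S.diag_u h1 h2
  rw [suMat_mulVec_mul] at hu
  refine ⟨-(C.bar a / a * C.form S.u w), ?_⟩
  rw [← su_mulVec_inv E (g.1.1 *ᵥ S.u), hu, Matrix.mulVec_smul, S.P.eich_perp w hw t ht S.hu]
  module

/-- A non-trivial element of the Eichler group fixes one point only. -/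
theorem eich_fix_only {g : G3} (hg : g ∈ S.P.eichGroup) (h1 : g ≠ 1) {y : UPoint C 3} (hy : g • y = y) :
    y = pt S.P := by
  by_contra hne
  obtain ⟨v, hv, hv0, rfl⟩ := upt_surj C y
  have hev : C.form v S.P.e ≠ 0 := by
    intro h0
    have h := S.P.form_decomp v v
    rw [hv, h0, map_zero, mul_zero, zero_mul, add_zero, zero_add, S.span _ (S.P.proj_mem v), S.form_proj,
      C.form_smul_left, C.form_smul_right, S.huu, mul_one] at h
    have hu0 : C.form v S.u = 0 := by
      rcases mul_eq_zero.1 h.symm with h | h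
      · exact h
      · simpa using h
    exact hne ((upt_eq_iff C (le_refl 3) hv hv0 S.P.ee S.P.e_ne_zero).2
      ⟨C.form v S.P.f, by conv_lhs => rw [S.decomp v, h0, hu0, zero_smul, zero_smul, add_zero, add_zero]⟩)
  obtain ⟨w, hw, t, ht, hv'⟩ := S.P.exists_eich_point hv hev
  set E := S.P.eich w hw t ht
  obtain ⟨b, hb⟩ := (smul_pt_eq_iff g hv hv0 hv hv0).1 hy
  set k := E⁻¹ * g * E
  have hk : k ∈ S.P.eichGroup :=
    mul_mem (mul_mem (inv_mem (S.P.eich_mem w hw t ht)) hg) (S.P.eich_mem w hw t ht)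
  have hkf : k.1.1 *ᵥ S.P.f = b • S.P.f := by
    have hf : C.form v S.P.e • (E.1.1 *ᵥ S.P.f) = v := hv'.symm
    have hf2 : E.1.1 *ᵥ S.P.f = (C.form v S.P.e)⁻¹ • v := by
      conv_rhs => arg 2; rw [← hf]
      rw [inv_smul_smul₀ hev]
    rw [suMat_mulVec_mul, suMat_mulVec_mul, hf2, Matrix.mulVec_smul, hb, smul_comm, ← hf2, Matrix.mulVec_smul,
      su_inv_mulVec]
  have := S.diag_eq (g := k) (a := 1) (by rw [one_smul]; exact S.eichGroup_iff.1 hk) ⟨b, hkf⟩ (h := 1)
    (by rw [su_one_mulVec, one_smul]) ⟨1, by rw [su_one_mulVec, one_smul]⟩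
  refine h1 ?_
  calc g = E * k * E⁻¹ := by simp only [k]; group
    _ = 1 := by rw [this]; group

end Frame

/-- Orthogonal isotropic vectors are proportional. -/
theorem iso_orth {v w : V3} (hv : C.form v v = 0) (hv0 : v ≠ 0) (hw : C.form w w = 0) (h : C.form w v = 0) :
    ∃ a : F, w = a • v := by
  obtain ⟨P, rfl⟩ := uPair_exists C hv0 hv
  obtain ⟨S, rfl⟩ := exists_frame P
  refine ⟨C.form w S.P.f, ?_⟩
  have h2 := S.P.form_decomp w w
  rw [hw, h, map_zero, mul_zero, zero_mul, add_zero, zero_add, S.span _ (S.P.proj_mem w), S.form_proj,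
    C.form_smul_left, C.form_smul_right, S.huu, mul_one] at h2
  have hu0 : C.form w S.u = 0 := by
    rcases mul_eq_zero.1 h2.symm with h3 | h3
    · exact h3
    · simpa using h3
  conv_lhs => rw [S.decomp w, h, hu0, zero_smul, zero_smul, add_zero, add_zero]

/-- An element acting on an isotropic vector by a ratio of norm not one fixes exactly two points. -/
theorem exists_second {g : G3} {e : V3} (he : C.form e e = 0) (he0 : e ≠ 0) {a : F}
    (hge : g.1.1 *ᵥ e = a • e) (ha : a * C.bar a ≠ 1) :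
    ∃ P : UPair C 3, P.e = e ∧ g • pt' P = pt' P ∧ ∀ z : UPoint C 3, g • z = z → z = pt P ∨ z = pt' P := by
  have ha0 : a ≠ 0 := fun h => su_mulVec_ne_zero g he0 (by rw [hge, h, zero_smul])
  have hba : C.bar a ≠ 0 := by simpa using ha0
  set b := (C.bar a)⁻¹ with hb
  have hab : C.bar a * b = 1 := mul_inv_cancel₀ hba
  have hnb : b * C.bar b ≠ 1 := fun h => ha (by
    rw [hb, map_inv₀, C.bar_bar, ← mul_inv, inv_eq_one, mul_comm] at h
    exact h)
  have hkey : ∀ x, C.form (g.1.1 *ᵥ x - b • x) e = 0 := fun x => by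
    have := C.form_su g x e
    rw [hge, C.form_smul_right] at this
    rw [C.form_sub_left, C.form_smul_left]
    refine mul_left_cancel₀ hba ?_
    linear_combination this - C.form x e * hab
  obtain ⟨y, hy⟩ := C.exists_form_eq_one he0
  have hdet : (g.1.1 - b • (1 : Matrix (Fin 3) (Fin 3) F)).det = 0 := by
    by_contra hd
    obtain ⟨x, hx⟩ := (Matrix.mulVec_surjective_iff_isUnit.2
      ((Matrix.isUnit_iff_isUnit_det _).2 (isUnit_iff_ne_zero.2 hd))) y
    rw [Matrix.sub_mulVec, Matrix.smul_mulVec, Matrix.one_mulVec] at hx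
    exact one_ne_zero (α := F) (by rw [← hy, ← hx, hkey])
  obtain ⟨v, hv0, hv⟩ := Matrix.exists_mulVec_eq_zero_iff.2 hdet
  rw [Matrix.sub_mulVec, Matrix.smul_mulVec, Matrix.one_mulVec, sub_eq_zero] at hv
  have horth : ∀ {c : F} {z z' : V3}, g.1.1 *ᵥ z = c • z → g.1.1 *ᵥ z' = c • z' → c * C.bar c ≠ 1 →
      C.form z z' = 0 := fun {c z z'} h h' hc => by
    have := C.form_su g z z'
    rw [h, h', C.form_smul_left, C.form_smul_right, ← mul_assoc] at this
    by_contra hne
    exact hc (mul_right_cancel₀ hne (this.trans (one_mul _).symm))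
  have hvv := horth hv hv hnb
  have hev : C.form e v ≠ 0 := by
    intro h0
    obtain ⟨k, hk⟩ := iso_orth he he0 hvv (C.form_swap_zero h0)
    have hk0 : k ≠ 0 := fun h => hv0 (by rw [hk, h, zero_smul])
    rw [hk, Matrix.mulVec_smul, hge, smul_smul, smul_smul] at hv
    have h5 := smul_left_injective F he0 hv
    have h6 : a = b := mul_right_cancel₀ hk0 (by linear_combination h5)
    exact ha (by rw [mul_comm]; nth_rw 2 [h6]; exact hab)
  set f := (C.bar (C.form e v))⁻¹ • v with hf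
  have hgf : g.1.1 *ᵥ f = b • f := by rw [hf, Matrix.mulVec_smul, hv, smul_comm]
  refine ⟨⟨e, f, he, by rw [hf, C.form_smul_left, C.form_smul_right, hvv, mul_zero, mul_zero], by
    rw [hf, C.form_smul_right, map_inv₀, C.bar_bar, inv_mul_cancel₀ hev]⟩, rfl, ?_, ?_⟩
  · rw [pt', smul_pt_eq_iff]
    exact ⟨b, hgf⟩
  intro z hz
  obtain ⟨w, hw, hw0, rfl⟩ := upt_surj C z
  obtain ⟨c, hc⟩ := (smul_pt_eq_iff g hw hw0 hw hw0).1 hz
  by_cases hwe : C.form w e = 0
  · left
    rw [pt, upt_eq_iff C (le_refl 3)]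
    exact iso_orth he he0 hw hwe
  · right
    have hcb : c = b := by
      have := C.form_su g w e
      rw [hc, hge, C.form_smul_left, C.form_smul_right, ← mul_assoc] at this
      have h3 : c * C.bar a = 1 := mul_right_cancel₀ hwe (this.trans (one_mul _).symm)
      exact eq_inv_of_mul_eq_one_left h3
    subst hcb
    have hwv := horth hc hv hnb
    rw [pt', upt_eq_iff C (le_refl 3)]
    obtain ⟨k, hk⟩ := iso_orth hvv hv0 hw hwv
    exact ⟨k * C.bar (C.form e v), by simp only [hf, hk, smul_smul, mul_assoc]; rw [mul_inv_cancel₀ (by simpa using hev), mul_one]⟩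

end CfsgLib.PGroup.UnitThreeIndex
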