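import Cfsg.Agent.Lib.PGroup.UnitThreeIndex.Orbits

/-!
The points orthogonal to an anisotropic vector and involutive pairings of them.
-/

set_option autoImplicit false
set_option linter.unusedSectionVars false

namespace CfsgLib.PGroup.UnitThreeIndex

open scoped Matrix
open Matrix CfsgLib.SU CfsgLib.Classical

variable {F : Type*} [Field F] [Fintype F] {q : ℕ} {C : UCtx F q}

set_option quotPrecheck false

local notation "V3" => (Fin 3 → F)
local notation "G3" => ↥(Cfsg.SU 3 F q)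

theorem fixed_iff_pow {z : F} (hz : z ≠ 0) : C.bar z = z ↔ z ^ (q - 1) = 1 := by
  have hq : q - 1 + 1 = q := Nat.sub_add_cancel (Nat.pos_of_ne_zero C.q_ne_zero)
  rw [C.bar_eq]
  constructor
  · intro h
    refine mul_right_cancel₀ hz ?_
    rw [← pow_succ, hq, h, one_mul]
  · intro h
    rw [← hq, pow_succ, h, one_mul]

theorem norm_eq_pow (z : F) : z * C.bar z = z ^ (q + 1) := by
  rw [C.bar_eq, pow_succ, mul_comm]

/-- A root of unity of every small order dividing the order of the group of units. -/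
theorem exists_orderOf (hF : Fintype.card F = q ^ 2) {d : ℕ} (hd : d ∣ q ^ 2 - 1) : ∃ z : F, orderOf z = d := by
  obtain ⟨g, hg⟩ := IsCyclic.exists_ofOrder_eq_natCard (α := Fˣ)
  rw [Nat.card_units, Nat.card_eq_fintype_card, hF] at hg
  refine ⟨((g ^ ((q ^ 2 - 1) / d) : Fˣ) : F), ?_⟩
  rw [orderOf_units, orderOf_pow_of_dvd ?_ (by rw [hg]; exact Nat.div_dvd_of_dvd hd), hg, Nat.div_div_self hd (q_sq_pos hF).ne']
  exact Nat.div_ne_zero_iff.2 ⟨fun h => by rw [h, zero_dvd_iff] at hd; exact (q_sq_pos hF).ne' hd,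
    Nat.le_of_dvd (q_sq_pos hF) hd⟩

theorem sq_sub_one : q ^ 2 - 1 = (q + 1) * (q - 1) := by
  rw [← Nat.sq_sub_sq, one_pow]

namespace Frame

variable (S : Frame C)

/-- The points orthogonal to the unit vector. -/
def OnL (x : UPoint C 3) : Prop :=
  ∃ (v : V3) (hv : C.form v v = 0) (hv0 : v ≠ 0), C.form v S.u = 0 ∧ x = upt C v hv hv0

theorem onL_upt {v : V3} (hv : C.form v v = 0) (hv0 : v ≠ 0) :
    S.OnL (upt C v hv hv0) ↔ C.form v S.u = 0 := by
  refine ⟨fun ⟨w, hw, hw0, h, e⟩ => ?_, fun h => ⟨v, hv, hv0, h, rfl⟩⟩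
  obtain ⟨a, rfl⟩ := (upt_eq_iff C (le_refl 3) hv hv0 hw hw0).1 e
  rw [C.form_smul_left, h, mul_zero]

theorem onL_pt : S.OnL (pt S.P) := ⟨_, S.P.ee, S.P.e_ne_zero, S.eu, rfl⟩

theorem onL_pt' : S.OnL (pt' S.P) := ⟨_, S.P.ff, S.P.f_ne_zero, S.fu, rfl⟩

variable (δ : F)

/-- A vector of the chord. -/
def lvec (s : F) : V3 := (s * δ) • S.P.e + S.P.f

theorem lvec_ne_zero (s : F) : S.lvec δ s ≠ 0 := fun h => by
  have := congrArg (fun z => C.form z S.P.e) h
  simp [lvec, C.form_add_left, C.form_smul_left, S.P.ee, S.P.fe, C.form_zero_left] at this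

theorem form_lvec_u (s : F) : C.form (S.lvec δ s) S.u = 0 := by
  simp [lvec, C.form_add_left, C.form_smul_left, S.eu, S.fu]

theorem lvec_iso {δ s : F} (hδ : δ + C.bar δ = 0) (hs : C.bar s = s) :
    C.form (S.lvec δ s) (S.lvec δ s) = 0 := by
  simp only [lvec, C.form_add_left, C.form_add_right, C.form_smul_left, C.form_smul_right, S.P.ee, S.P.ff,
    S.P.ef, S.P.fe, map_mul, hs]
  linear_combination s * hδ

/-- A point of the chord. -/
def lp {δ s : F} (hδ : δ + C.bar δ = 0) (hs : C.bar s = s) : UPoint C 3 :=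
  upt C (S.lvec δ s) (S.lvec_iso hδ hs) (S.lvec_ne_zero δ s)

variable {δ}

theorem onL_lp {s : F} (hδ : δ + C.bar δ = 0) (hs : C.bar s = s) : S.OnL (S.lp hδ hs) :=
  ⟨_, _, _, S.form_lvec_u δ s, rfl⟩

theorem lp_ne_pt {s : F} (hδ : δ + C.bar δ = 0) (hs : C.bar s = s) : S.lp hδ hs ≠ pt S.P := fun h => by
  obtain ⟨a, ha⟩ := (upt_eq_iff C (le_refl 3) _ _ _ _).1 h
  have := congrArg (fun z => C.form z S.P.e) ha
  simp [lvec, C.form_add_left, C.form_smul_left, S.P.ee, S.P.fe] at this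

theorem lp_congr {s s' : F} (hδ : δ + C.bar δ = 0) (hs : C.bar s = s) (hs' : C.bar s' = s') (h : s = s') :
    S.lp hδ hs = S.lp hδ hs' := by subst h; rfl

theorem lp_inj (hδ0 : δ ≠ 0) {s s' : F} (hδ : δ + C.bar δ = 0) (hs : C.bar s = s) (hs' : C.bar s' = s')
    (h : S.lp hδ hs = S.lp hδ hs') : s = s' := by
  obtain ⟨a, ha⟩ := (upt_eq_iff C (le_refl 3) _ _ _ _).1 h
  have h1 := congrArg (fun z => C.form z S.P.e) ha
  have h2 := congrArg (fun z => C.form z S.P.f) ha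
  simp only [lvec, C.form_add_left, C.form_smul_left, S.P.ee, S.P.fe, S.P.ef, S.P.ff, mul_zero, zero_add,
    mul_one, add_zero] at h1 h2
  rw [← h1, one_mul] at h2
  exact mul_right_cancel₀ hδ0 h2

theorem lp_zero (hδ : δ + C.bar δ = 0) : S.lp hδ (map_zero C.bar) = pt' S.P := by
  rw [lp, pt', upt_eq_iff C (le_refl 3)]
  exact ⟨1, by simp [lvec]⟩

/-- A vector of the line through the chord is a point `lp` or the first point. -/
theorem upt_eq_lp (hδ0 : δ ≠ 0) (hδ : δ + C.bar δ = 0) {v : V3} (hv : C.form v v = 0) (hv0 : v ≠ 0)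
    {α β : F} (hβ : β ≠ 0) (h : v = α • S.P.e + β • S.P.f) :
    ∃ hs : C.bar (α / β / δ) = α / β / δ, upt C v hv hv0 = S.lp hδ hs := by
  have hbβ : C.bar β ≠ 0 := by simpa using hβ
  have hbd : C.bar δ = -δ := eq_neg_of_add_eq_zero_right hδ
  have hs : C.bar (α / β / δ) = α / β / δ := by
    have h0 : α * C.bar β + β * C.bar α = 0 := by
      have := hv
      rw [h] at this
      simp only [C.form_add_left, C.form_add_right, C.form_smul_left, C.form_smul_right, S.P.ee, S.P.ff,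
        S.P.ef, S.P.fe] at this
      linear_combination this
    rw [map_div₀, map_div₀, hbd]
    field_simp
    linear_combination (-1 : F) * h0
  refine ⟨hs, ?_⟩
  rw [lp, upt_eq_iff C (le_refl 3)]
  refine ⟨β, ?_⟩
  rw [h, lvec, smul_add, smul_smul, show β * (α / β / δ * δ) = α by field_simp]

theorem onL_cases (hδ0 : δ ≠ 0) (hδ : δ + C.bar δ = 0) {x : UPoint C 3} (h : S.OnL x) :
    x = pt S.P ∨ ∃ (s : F) (hs : C.bar s = s), x = S.lp hδ hs := by
  obtain ⟨v, hv, hv0, hu, rfl⟩ := h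
  have hd := S.decomp v
  rw [hu, zero_smul, add_zero] at hd
  by_cases hβ : C.form v S.P.e = 0
  · left
    rw [pt, upt_eq_iff C (le_refl 3)]
    exact ⟨C.form v S.P.f, by conv_lhs => rw [hd, hβ, zero_smul, add_zero]⟩
  · right
    obtain ⟨hs, e⟩ := S.upt_eq_lp hδ0 hδ hv hv0 hβ hd
    exact ⟨_, hs, e⟩

theorem card_onL (hF : Fintype.card F = q ^ 2) : Nat.card {x // S.OnL x} = q + 1 := by
  classical
  obtain ⟨δ, hδ0, hδ⟩ := C.exists_trace_zero
  let f : Option {c : F // C.bar c = c} → {x // S.OnL x} := fun o =>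
    o.elim ⟨pt S.P, S.onL_pt⟩ fun c => ⟨S.lp hδ c.2, S.onL_lp hδ c.2⟩
  have hf : Function.Bijective f := by
    constructor
    · rintro (_ | a) (_ | b) h <;> have h' := congrArg Subtype.val h <;> simp only [f, Option.elim] at h'
      · rfl
      · exact absurd h'.symm (S.lp_ne_pt hδ b.2)
      · exact absurd h' (S.lp_ne_pt hδ a.2)
      · exact congrArg some (Subtype.ext (S.lp_inj hδ0 hδ a.2 b.2 h'))
    · rintro ⟨x, hx⟩
      rcases S.onL_cases hδ0 hδ hx with rfl | ⟨s, hs, rfl⟩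
      · exact ⟨none, rfl⟩
      · exact ⟨some ⟨s, hs⟩, rfl⟩
  rw [← Nat.card_congr (Equiv.ofBijective f hf), Finite.card_option, PGroup.UnitAll.card_fixed hF]

/-- A diagonal element multiplies the parameter of a chord point by the norm of its ratio. -/
theorem diag_lp {g : G3} {a : F} (he : g.1.1 *ᵥ S.P.e = a • S.P.e) (hf : ∃ b : F, g.1.1 *ᵥ S.P.f = b • S.P.f)
    (hδ : δ + C.bar δ = 0) {s s' : F} (hs : C.bar s = s) (hs' : C.bar s' = s')
    (h : s' = a * C.bar a * s) : g • S.lp hδ hs = S.lp hδ hs' := by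
  obtain ⟨b, hf⟩ := hf
  obtain ⟨hab, -⟩ := S.diag_u he hf
  rw [lp, lp, smul_pt_eq_iff]
  refine ⟨b, ?_⟩
  have h1 : C.bar a * b = 1 := by
    have := congrArg C.bar hab
    rwa [map_mul, C.bar_bar, map_one] at this
  simp only [lvec, Matrix.mulVec_add, Matrix.mulVec_smul, he, hf, smul_add, smul_smul]
  congr 2
  rw [h]
  linear_combination (-(s * δ * a)) * h1

/-- Bound on the field from an equivariant involution of the chord. -/
theorem chord_bound (hF : Fintype.card F = q ^ 2) (K : Subgroup G3) {y : UPoint C 3} (hy : y = pt' S.P)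
    (hfix : ∀ k ∈ K, k • pt S.P = pt S.P → k • y = y)
    (hswap : ∀ k ∈ K, k • pt S.P = y → k • y = pt S.P)
    (htr : ∀ R, S.OnL R → ∃ k ∈ K, k • pt S.P = R)
    (hL : ∀ k ∈ K, S.OnL (k • pt S.P) → S.OnL (k • y))
    {m : ℕ} (hm : 0 < m)
    (hdiag : ∀ s : F, s ≠ 0 → C.bar s = s → ∃ d ∈ K, d • pt' S.P = pt' S.P ∧
      ∃ a : F, d.1.1 *ᵥ S.P.e = a • S.P.e ∧ a * C.bar a = s ^ m) :
    q ≤ 3 + 2 * m * m ∧ (m = 1 → Odd q) := by
  classical
  subst hy
  obtain ⟨δ, hδ0, hδ⟩ := C.exists_trace_zero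
  set x := pt S.P
  set y := pt' S.P
  have hxy : x ≠ y := pt_ne S.P
  have func : ∀ k ∈ K, ∀ k' ∈ K, k • x = k' • x → k • y = k' • y := by
    intro k hk k' hk' h
    have h1 := hfix _ (mul_mem (inv_mem hk') hk) (by rw [mul_smul, h, inv_smul_smul])
    rwa [mul_smul, inv_smul_eq_iff] at h1
  obtain ⟨k₀, hk₀, hk₀x⟩ := htr y S.onL_pt'
  have hk₀y : k₀ • y = x := hswap k₀ hk₀ hk₀x
  have symm : ∀ k ∈ K, ∀ k' ∈ K, k • y = k' • x → k' • y = k • x := by
    intro k hk k' hk' h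
    rw [← hk₀x, ← mul_smul] at h
    rw [← func _ (mul_mem hk hk₀) k' hk' h, mul_smul, hk₀y]
  have hφ : ∀ s : F, s ≠ 0 → ∀ hs : C.bar s = s, ∃ s' : F, ∃ hs' : C.bar s' = s', s' ≠ 0 ∧ s' ≠ s ∧
      ∃ k ∈ K, k • x = S.lp hδ hs ∧ k • y = S.lp hδ hs' := by
    intro s hs0 hs
    obtain ⟨k, hk, hkx⟩ := htr _ (S.onL_lp hδ hs)
    rcases S.onL_cases hδ0 hδ (hL k hk (hkx ▸ S.onL_lp hδ hs)) with h | ⟨s', hs', h⟩
    · exfalso
      have h2 := symm k hk 1 (one_mem _) (by rw [h, one_smul])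
      rw [one_smul, hkx] at h2
      exact hs0 (S.lp_inj hδ0 hδ hs (map_zero _) (h2.symm.trans (S.lp_zero hδ).symm))
    refine ⟨s', hs', ?_, ?_, k, hk, hkx, h⟩
    · rintro rfl
      have h2 := symm k hk k₀ hk₀ (by rw [hk₀x, h]; exact S.lp_zero hδ)
      rw [hk₀y, hkx] at h2
      exact S.lp_ne_pt hδ hs h2.symm
    · rintro rfl
      refine hxy (smul_left_cancel k ?_)
      rw [hkx, h]
  choose φ hφf hφ0 hφne kf hkf hkx hky using hφ
  have hφu : ∀ s (h0 : s ≠ 0) (hs : C.bar s = s), ∀ k ∈ K, k • x = S.lp hδ hs → ∀ t, ∀ ht : C.bar t = t,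
      k • y = S.lp hδ ht → t = φ s h0 hs := by
    intro s h0 hs k hk hkx' t ht hky'
    refine S.lp_inj hδ0 hδ ht (hφf s h0 hs) ?_
    rw [← hky', ← hky s h0 hs]
    exact func k hk _ (hkf s h0 hs) (hkx'.trans (hkx s h0 hs).symm)
  -- the ratio
  let c : F → F := fun s => if h : s ≠ 0 ∧ C.bar s = s then φ s h.1 h.2 / s else 0
  have hc : ∀ s (h0 : s ≠ 0) (hs : C.bar s = s), c s = φ s h0 hs / s := fun s h0 hs => by
    simp only [c, dif_pos (And.intro h0 hs)]
  have hc0 : ∀ s, s ≠ 0 → C.bar s = s → c s ≠ 0 ∧ c s ≠ 1 := fun s h0 hs => by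
    rw [hc s h0 hs]
    exact ⟨div_ne_zero (hφ0 s h0 hs) h0, fun h => hφne s h0 hs ((div_eq_one_iff_eq h0).1 h)⟩
  have equiv : ∀ s z : F, s ≠ 0 → C.bar s = s → z ≠ 0 → C.bar z = z → c (z ^ m * s) = c s := by
    intro s z h0 hs hz0 hz
    obtain ⟨d, hd, hdy, a, hda, han⟩ := hdiag z hz0 hz
    obtain ⟨b, hdb⟩ := (smul_pt_eq_iff d S.P.ff S.P.f_ne_zero S.P.ff S.P.f_ne_zero).1 hdy
    have hzm0 : z ^ m * s ≠ 0 := mul_ne_zero (pow_ne_zero _ hz0) h0
    have hzms : C.bar (z ^ m * s) = z ^ m * s := by rw [map_mul, map_pow, hz, hs]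
    have hzmφ : C.bar (z ^ m * φ s h0 hs) = z ^ m * φ s h0 hs := by rw [map_mul, map_pow, hz, hφf]
    have := hφu _ hzm0 hzms (d * kf s h0 hs) (mul_mem hd (hkf s h0 hs))
      (by rw [mul_smul, hkx, S.diag_lp hda ⟨b, hdb⟩ hδ hs hzms (by rw [han])]) _ hzmφ
      (by rw [mul_smul, hky, S.diag_lp hda ⟨b, hdb⟩ hδ (hφf s h0 hs) hzmφ (by rw [han])])
    rw [hc _ hzm0 hzms, hc s h0 hs, ← this, mul_div_mul_left _ _ (pow_ne_zero _ hz0)]
  -- the representatives
  have hq1 : 0 < q - 1 := by have := PGroup.UnitAll.q_ge_two hF; omega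
  obtain ⟨ζ, hζ⟩ := exists_orderOf hF (d := q - 1) (sq_sub_one ▸ dvd_mul_left _ _)
  have hζ0 : ζ ≠ 0 := fun h => by
    rw [h, orderOf_zero] at hζ
    omega
  have hζf : C.bar ζ = ζ := (fixed_iff_pow hζ0).2 (hζ ▸ pow_orderOf_eq_one ζ)
  set Cs := (Finset.range m).image fun i => c (ζ ^ i) with hCs
  have hCscard : Cs.card ≤ m := Finset.card_image_le.trans (Finset.card_range m).le
  have hcmem : ∀ s, s ≠ 0 → C.bar s = s → c s ∈ Cs := by
    intro s h0 hs
    have hpr : IsPrimitiveRoot ζ (q - 1) := hζ ▸ IsPrimitiveRoot.orderOf ζ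
    haveI : NeZero (q - 1) := ⟨hq1.ne'⟩
    obtain ⟨i, -, rfl⟩ := hpr.eq_pow_of_pow_eq_one ((fixed_iff_pow (C := C) h0).1 hs)
    rw [show ζ ^ i = (ζ ^ (i / m)) ^ m * ζ ^ (i % m) by rw [← pow_mul, ← pow_add, Nat.div_add_mod'],
      equiv _ _ (pow_ne_zero _ hζ0) (by rw [map_pow, hζf]) (pow_ne_zero _ hζ0) (by rw [map_pow, hζf])]
    exact Finset.mem_image.2 ⟨i % m, Finset.mem_range.2 (Nat.mod_lt _ hm), rfl⟩
  have hone : C.bar (1 : F) = 1 := map_one _
  constructor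
  swap
  · rintro rfl
    rcases Nat.even_or_odd q with he | ho
    swap
    · exact ho
    exfalso
    have h1 := equiv 1 (φ 1 one_ne_zero hone) one_ne_zero hone (hφ0 _ _ _) (hφf _ _ _)
    rw [pow_one, mul_one] at h1
    set t := φ 1 one_ne_zero hone with htdef
    have ht1 : c 1 = t := by rw [hc 1 one_ne_zero hone, div_one]
    have ht2 : φ t (hφ0 _ _ _) (hφf _ _ _) = 1 := by
      refine (hφu t (hφ0 _ _ _) (hφf _ _ _) (kf 1 one_ne_zero hone * k₀)
        (mul_mem (hkf _ _ _) hk₀) (by rw [mul_smul, hk₀x, hky]) 1 hone (by rw [mul_smul, hk₀y, hkx])).symm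
    rw [hc t (hφ0 _ _ _) (hφf _ _ _), ht2, ht1] at h1
    have h2 : t * t = 1 := by
      conv_lhs => arg 1; rw [← h1]
      rw [div_mul_cancel₀ _ (hφ0 _ _ _)]
    obtain ⟨p, f, hp, hf, hqp, hch⟩ := PGroup.UnitAll.exists_prime_data hF
    obtain rfl : p = 2 := ((Nat.prime_dvd_prime_iff_eq Nat.prime_two hp).1
      (Nat.prime_two.dvd_of_dvd_pow (hqp ▸ he.two_dvd : 2 ∣ p ^ f))).symm
    haveI := hch
    rcases mul_self_eq_one_iff.1 h2 with h3 | h3
    · exact hφne 1 one_ne_zero hone h3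
    · rw [CharTwo.neg_eq] at h3
      exact hφne 1 one_ne_zero hone h3
  -- the element moving the pair
  set t₁ := φ 1 one_ne_zero hone
  set k := kf 1 one_ne_zero hone
  have hk : k ∈ K := hkf _ _ _
  obtain ⟨α, hα⟩ := (smul_pt_eq_iff k S.P.ee S.P.e_ne_zero (S.lvec_iso hδ hone) (S.lvec_ne_zero δ 1)).1
    (hkx 1 one_ne_zero hone)
  obtain ⟨β, hβ⟩ := (smul_pt_eq_iff k S.P.ff S.P.f_ne_zero (S.lvec_iso hδ (hφf 1 one_ne_zero hone))
    (S.lvec_ne_zero δ t₁)).1 (hky 1 one_ne_zero hone)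
  have hα0 : α ≠ 0 := fun h => su_mulVec_ne_zero k S.P.e_ne_zero (by rw [hα, h, zero_smul])
  have hβ0 : β ≠ 0 := fun h => su_mulVec_ne_zero k S.P.f_ne_zero (by rw [hβ, h, zero_smul])
  set X := δ * α / β with hX
  have hX0 : X ≠ 0 := div_ne_zero (mul_ne_zero hδ0 hα0) hβ0
  have himg : ∀ s (hs : C.bar s = s), (X * s + 1 = 0 → k • S.lp hδ hs = x) ∧ (X * s + 1 ≠ 0 →
      ∃ hσ : C.bar ((X * s + t₁) / (X * s + 1)) = (X * s + t₁) / (X * s + 1),
        k • S.lp hδ hs = S.lp hδ hσ) := by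
    intro s hs
    have hv : k.1.1 *ᵥ S.lvec δ s = (β * δ * (X * s + t₁)) • S.P.e + (β * (X * s + 1)) • S.P.f := by
      rw [lvec, Matrix.mulVec_add, Matrix.mulVec_smul, hα, hβ, lvec, lvec, hX]
      simp only [smul_add, smul_smul, one_mul]
      rw [show β * δ * (δ * α / β * s + t₁) = s * δ * α * δ + β * (t₁ * δ) by field_simp,
        show β * (δ * α / β * s + 1) = s * δ * α + β by field_simp]
      module
    refine ⟨fun h => ?_, fun h => ?_⟩
    · rw [lp, smul_pt]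
      show _ = pt S.P
      rw [pt, upt_eq_iff C (le_refl 3)]
      exact ⟨β * δ * (X * s + t₁), by rw [hv, h, mul_zero, zero_smul, add_zero]⟩
    · rw [lp, smul_pt]
      obtain ⟨hσ, e⟩ := S.upt_eq_lp hδ0 hδ (by rw [C.form_su]; exact S.lvec_iso hδ hs)
        (su_mulVec_ne_zero k (S.lvec_ne_zero δ s)) (mul_ne_zero hβ0 h) hv
      have hh : β * δ * (X * s + t₁) / (β * (X * s + 1)) / δ = (X * s + t₁) / (X * s + 1) := by
        field_simp
      exact ⟨hh ▸ hσ, e.trans (S.lp_congr hδ _ _ hh)⟩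
  have himg0 : ∀ s (hs : C.bar s = s), X * s + t₁ = 0 → k • S.lp hδ hs = y := by
    intro s hs h
    have h1 : X * s + 1 ≠ 0 := fun h1 => hφne 1 one_ne_zero hone (by
      show t₁ = 1
      linear_combination h - h1)
    obtain ⟨hσ, e⟩ := (himg s hs).2 h1
    exact e.trans ((S.lp_congr hδ _ (map_zero _) (by rw [h, zero_div])).trans (S.lp_zero hδ))
  let P : F → F → Polynomial F := fun c d =>
    Polynomial.C (X ^ 2 * c * (d - 1)) * Polynomial.X ^ 2 +
      Polynomial.C (d * (X + t₁ * X * c) - (X * c + t₁ * X)) * Polynomial.X + Polynomial.C (d * t₁ - t₁)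
  set Sx : Finset F := {-1 / X, -t₁ / X} ∪ (Cs ×ˢ Cs).biUnion fun cd =>
    if cd.1 ≠ 0 ∧ cd.2 ≠ 1 then (P cd.1 cd.2).roots.toFinset else ∅ with hSx
  have hcover : ∀ s, s ≠ 0 → C.bar s = s → s ∈ Sx := by
    intro s h0 hs
    by_cases h1 : X * s + 1 = 0
    · refine Finset.mem_union_left _ (Finset.mem_insert.2 (Or.inl ?_))
      rw [eq_div_iff hX0]
      linear_combination h1
    by_cases h2 : X * s + t₁ = 0
    · refine Finset.mem_union_left _ (Finset.mem_insert.2 (Or.inr (Finset.mem_singleton.2 ?_)))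
      rw [eq_div_iff hX0]
      linear_combination h2
    refine Finset.mem_union_right _ ?_
    set s' := φ s h0 hs
    obtain ⟨hσ, eσ⟩ := (himg s hs).2 h1
    set σ := (X * s + t₁) / (X * s + 1)
    have hσ0 : σ ≠ 0 := div_ne_zero h2 h1
    have hm' : k * kf s h0 hs ∈ K := mul_mem hk (hkf s h0 hs)
    have e1 : (k * kf s h0 hs) • x = S.lp hδ hσ := by rw [mul_smul, hkx, eσ]
    have e2 : (kf σ hσ0 hσ) • y = (k * kf s h0 hs) • y :=
      (func _ hm' _ (hkf σ hσ0 hσ) (e1.trans (hkx σ hσ0 hσ).symm)).symm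
    rw [hky, mul_smul, hky] at e2
    have hne : X * s' + 1 ≠ 0 := fun h => S.lp_ne_pt hδ (hφf σ hσ0 hσ) (e2.trans ((himg s' (hφf s h0 hs)).1 h))
    obtain ⟨hσ', eσ'⟩ := (himg s' (hφf s h0 hs)).2 hne
    have e3 := S.lp_inj hδ0 hδ _ _ (e2.trans eσ')
    have hd : φ σ hσ0 hσ = c σ * σ := by rw [hc σ hσ0 hσ, div_mul_cancel₀ _ hσ0]
    have hs' : s' = c s * s := by rw [hc s h0 hs, div_mul_cancel₀ _ h0]
    rw [hd] at e3
    obtain ⟨hc1, -⟩ := hc0 s h0 hs
    obtain ⟨-, hd1⟩ := hc0 σ hσ0 hσ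
    refine Finset.mem_biUnion.2 ⟨(c s, c σ), Finset.mem_product.2 ⟨hcmem s h0 hs, hcmem σ hσ0 hσ⟩, ?_⟩
    rw [if_pos ⟨hc1, hd1⟩, Multiset.mem_toFinset, Polynomial.mem_roots']
    refine ⟨fun h => ?_, ?_⟩
    · have h4 := congrArg (fun Q => Polynomial.coeff Q 2) h
      simp only [P, Polynomial.coeff_add, Polynomial.coeff_C_mul, Polynomial.coeff_X_pow, Polynomial.coeff_X,
        Polynomial.coeff_C, Polynomial.coeff_zero] at h4
      norm_num [hX0, hc1, sub_eq_zero, hd1] at h4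
    · rw [hs'] at e3 hne
      generalize c σ = d at e3
      simp only [σ] at e3
      rw [← mul_div_assoc, div_eq_div_iff h1 hne] at e3
      simp [P]
      linear_combination e3
  have hSc : Sx.card ≤ 2 + 2 * (m * m) := by
    refine (Finset.card_union_le _ _).trans (Nat.add_le_add ((Finset.card_insert_le _ _).trans
      (by rw [Finset.card_singleton])) ?_)
    refine (Finset.card_biUnion_le_card_mul _ _ 2 fun cd _ => ?_).trans ?_
    · split_ifs with h
      · refine (Multiset.toFinset_card_le _).trans ((Polynomial.card_roots' _).trans ?_)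
        exact Polynomial.natDegree_quadratic_le
      · simp
    · rw [Finset.card_product, mul_comm]
      exact Nat.mul_le_mul_left 2 (Nat.mul_le_mul hCscard hCscard)
  have hcnt : q ≤ Sx.card + 1 := by
    have hsub : (Finset.univ.filter fun z : F => C.bar z = z) ⊆ insert 0 Sx := fun z hz => by
      rw [Finset.mem_insert]
      rcases eq_or_ne z 0 with h | h
      · exact Or.inl h
      · exact Or.inr (hcover z h (Finset.mem_filter.1 hz).2)
    have h1 := (Finset.card_le_card hsub).trans (Finset.card_insert_le _ _)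
    rwa [← Fintype.card_subtype, ← Nat.card_eq_fintype_card, PGroup.UnitAll.card_fixed hF] at h1
  rw [mul_assoc]
  omega

end Frame

end CfsgLib.PGroup.UnitThreeIndex
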