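import Cfsg.Agent.Lib.PGroup.UnitThreeIndex.Chord

/-!
Coordinates on the unipotent radical of a point stabiliser, and elements fixing a chord.
-/

set_option autoImplicit false
set_option linter.unusedSectionVars false

namespace CfsgLib.PGroup.UnitThreeIndex

open scoped Matrix
open Matrix CfsgLib.SU CfsgLib.Classical

variable {F : Type*} [Field F] [Fintype F] {q : ℕ} {C : UCtx F q}

set_option quotPrecheck false

local notation "V3" => (Fin 3 → F)
local notation "G3" => ↥(Cfsg.SU 3 F q)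

namespace Frame

variable (S : Frame C)

/-- The linear coordinate. -/
def pv (g : G3) : F := C.form (g.1.1 *ᵥ S.P.f) S.u

/-- The central coordinate. -/
def tauv (g : G3) : F := C.form (g.1.1 *ᵥ S.P.f) S.P.f

theorem eich_coords {g : G3} (hg : g ∈ S.P.eichGroup) :
    g.1.1 *ᵥ S.P.f = S.tauv g • S.P.e + S.P.f + S.pv g • S.u ∧
      g.1.1 *ᵥ S.u = S.u - C.bar (S.pv g) • S.P.e ∧
      S.tauv g + C.bar (S.tauv g) + S.pv g * C.bar (S.pv g) = 0 := by
  have he := S.eichGroup_iff.1 hg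
  have h1 : C.form (g.1.1 *ᵥ S.P.f) S.P.e = 1 := by
    have := C.form_su g S.P.f S.P.e
    rwa [he, S.P.fe] at this
  have hf : g.1.1 *ᵥ S.P.f = S.tauv g • S.P.e + S.P.f + S.pv g • S.u := by
    conv_lhs => rw [S.decomp (g.1.1 *ᵥ S.P.f), h1, one_smul]
    rfl
  refine ⟨hf, ?_, ?_⟩
  · obtain ⟨r, hr⟩ := S.mulVec_u (g := g) (a := 1) (by rw [one_smul]; exact he)
    rw [map_one, div_one, one_smul] at hr
    have := C.form_su g S.u S.P.f
    rw [hr, hf, S.uf] at this
    simp only [C.form_add_left, C.form_add_right, C.form_smul_left, C.form_smul_right, S.ue, S.uf, S.P.ee,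
      S.P.ef, S.huu, S.eu, mul_zero, mul_one, zero_add, add_zero] at this
    rw [hr, sub_eq_add_neg, ← neg_smul, show r = -C.bar (S.pv g) by linear_combination this]
  · have := C.form_su g S.P.f S.P.f
    rw [hf, S.P.ff] at this
    simp only [C.form_add_left, C.form_add_right, C.form_smul_left, C.form_smul_right, S.P.ee, S.P.ff,
      S.P.ef, S.P.fe, S.eu, S.ue, S.fu, S.uf, S.huu] at this
    linear_combination this

theorem eich_mul {g h : G3} (hg : g ∈ S.P.eichGroup) (hh : h ∈ S.P.eichGroup) :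
    S.pv (g * h) = S.pv g + S.pv h ∧
      S.tauv (g * h) = S.tauv g + S.tauv h - S.pv h * C.bar (S.pv g) := by
  obtain ⟨hgf, hgu, -⟩ := S.eich_coords hg
  obtain ⟨hhf, -, -⟩ := S.eich_coords hh
  have he := S.eichGroup_iff.1 hg
  have h1 : (g * h).1.1 *ᵥ S.P.f =
      S.tauv h • S.P.e + (S.tauv g • S.P.e + S.P.f + S.pv g • S.u) +
        S.pv h • (S.u - C.bar (S.pv g) • S.P.e) := by
    rw [suMat_mulVec_mul, hhf, Matrix.mulVec_add, Matrix.mulVec_add, Matrix.mulVec_smul, Matrix.mulVec_smul,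
      he, hgf, hgu]
  constructor
  · show C.form ((g * h).1.1 *ᵥ S.P.f) S.u = _
    rw [h1]
    simp only [C.form_add_left, C.form_sub_left, C.form_smul_left, S.eu, S.fu, S.huu]
    ring
  · show C.form ((g * h).1.1 *ᵥ S.P.f) S.P.f = _
    rw [h1]
    simp only [C.form_add_left, C.form_sub_left, C.form_smul_left, S.P.ef, S.P.ff, S.uf]
    ring

theorem pv_one : S.pv 1 = 0 := by rw [pv, su_one_mulVec, S.fu]

theorem tauv_one : S.tauv 1 = 0 := by rw [tauv, su_one_mulVec, S.P.ff]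

theorem pv_inv {g : G3} (hg : g ∈ S.P.eichGroup) : S.pv g⁻¹ = -S.pv g := by
  have h := (S.eich_mul hg (inv_mem hg)).1
  rw [mul_inv_cancel, pv_one] at h
  linear_combination -h

theorem pv_mem_fix {g : G3} (hg : g ∈ S.P.eichGroup) : g.1.1 *ᵥ S.u = S.u ↔ S.pv g = 0 := by
  obtain ⟨-, hu, -⟩ := S.eich_coords hg
  rw [hu, sub_eq_self]
  constructor
  · intro h
    rcases smul_eq_zero.1 h with h | h
    · simpa using h
    · exact absurd h S.P.e_ne_zero
  · intro h
    rw [h, map_zero, zero_smul]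

theorem eq_tv_of_pv {g : G3} (hg : g ∈ S.P.eichGroup) (h : S.pv g = 0) :
    ∃ ht : S.tauv g + C.bar (S.tauv g) = 0, g = C.tv S.P.e S.P.ee (S.tauv g) ht := by
  obtain ⟨hf, hu, hc⟩ := S.eich_coords hg
  rw [h, zero_mul, add_zero] at hc
  rw [h, map_zero, zero_smul, sub_zero] at hu
  rw [h, zero_smul, add_zero] at hf
  refine ⟨hc, su_ext fun x => ?_⟩
  conv_lhs => rw [S.decomp x]
  rw [C.tv_mulVec, Matrix.mulVec_add, Matrix.mulVec_add, Matrix.mulVec_smul, Matrix.mulVec_smul,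
    Matrix.mulVec_smul, S.eichGroup_iff.1 hg, hf, hu]
  conv_rhs => rw [S.decomp x]
  simp only [C.form_add_left, C.form_smul_left, S.P.ee, S.P.fe, S.ue]
  module

theorem eq_one_of_coords {g : G3} (hg : g ∈ S.P.eichGroup) (h : S.pv g = 0) (h' : S.tauv g = 0) : g = 1 := by
  obtain ⟨ht, he⟩ := S.eq_tv_of_pv hg h
  rw [he]
  exact su_ext fun x => by rw [C.tv_mulVec, su_one_mulVec, h', zero_mul, zero_smul, add_zero]

theorem tv_mem_eich {t : F} (ht : t + C.bar t = 0) :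
    C.tv S.P.e S.P.ee t ht ∈ S.P.eichGroup ∧ S.pv (C.tv S.P.e S.P.ee t ht) = 0 ∧
      S.tauv (C.tv S.P.e S.P.ee t ht) = t := by
  refine ⟨S.eichGroup_iff.2 ?_, ?_, ?_⟩
  · rw [C.tv_mulVec, S.P.ee, mul_zero, zero_smul, add_zero]
  · rw [pv, C.tv_mulVec, C.form_add_left, C.form_smul_left, S.fu, S.eu, mul_zero, add_zero]
  · rw [tauv, C.tv_mulVec, C.form_add_left, C.form_smul_left, S.P.ff, S.P.fe, S.P.ef, zero_add, mul_one, mul_one]

/-- Conjugation by an element of the point stabiliser. -/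
theorem conj_coords {g v : G3} {a : F} (he : g.1.1 *ᵥ S.P.e = a • S.P.e) (hv : v ∈ S.P.eichGroup) :
    g * v * g⁻¹ ∈ S.P.eichGroup ∧ S.pv (g * v * g⁻¹) = C.bar a ^ 2 / a * S.pv v ∧
      (S.pv v = 0 → S.tauv (g * v * g⁻¹) = a * C.bar a * S.tauv v) := by
  obtain ⟨hvf, hvu, -⟩ := S.eich_coords hv
  have hve := S.eichGroup_iff.1 hv
  have ha0 : a ≠ 0 := fun h => su_mulVec_ne_zero g S.P.e_ne_zero (by rw [he, h, zero_smul])
  obtain ⟨r, hr⟩ := S.mulVec_u he
  refine ⟨S.eichGroup_iff.2 ?_, ?_⟩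
  · have h1 : g⁻¹.1.1 *ᵥ S.P.e = a⁻¹ • S.P.e := by
      have := su_inv_mulVec g S.P.e
      rw [he, Matrix.mulVec_smul] at this
      rw [eq_inv_smul_iff₀ ha0, this]
    rw [suMat_mulVec_mul, suMat_mulVec_mul, h1, Matrix.mulVec_smul, hve, Matrix.mulVec_smul, he,
      inv_smul_smul₀ ha0]
  set y := g⁻¹.1.1 *ᵥ S.P.f with hy
  have hgy : g.1.1 *ᵥ y = S.P.f := su_mulVec_inv g S.P.f
  have hβ : C.form y S.P.e = C.bar a := by
    have := C.form_su g y S.P.e
    rw [hgy, he, C.form_smul_right, S.P.fe, mul_one] at this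
    exact this.symm
  have hvy : v.1.1 *ᵥ y = y + (C.bar a * S.tauv v - C.form y S.u * C.bar (S.pv v)) • S.P.e +
      (C.bar a * S.pv v) • S.u := by
    conv_lhs => rw [S.decomp y, hβ]
    rw [Matrix.mulVec_add, Matrix.mulVec_add, Matrix.mulVec_smul, Matrix.mulVec_smul, Matrix.mulVec_smul,
      hve, hvf, hvu]
    conv_rhs => arg 1; arg 1; rw [S.decomp y, hβ]
    module
  have key : (g * v * g⁻¹).1.1 *ᵥ S.P.f = S.P.f +
      ((C.bar a * S.tauv v - C.form y S.u * C.bar (S.pv v)) * a + C.bar a * S.pv v * r) • S.P.e +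
      (C.bar a * S.pv v * (C.bar a / a)) • S.u := by
    rw [suMat_mulVec_mul, suMat_mulVec_mul, ← hy, hvy, Matrix.mulVec_add, Matrix.mulVec_add,
      Matrix.mulVec_smul, Matrix.mulVec_smul, hgy, he, hr]
    module
  constructor
  · rw [pv, key]
    simp only [C.form_add_left, C.form_smul_left, S.eu, S.fu, S.huu]
    field_simp
    ring
  · intro h0
    rw [tauv, key]
    simp only [C.form_add_left, C.form_smul_left, S.P.ef, S.P.ff, S.uf, h0, map_zero]
    ring

/-- A diagonal element fixing the chord pointwise. -/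
theorem onL_of_diag {g : G3} {a : F} (he : g.1.1 *ᵥ S.P.e = a • S.P.e) (hy : g • pt' S.P = pt' S.P)
    (ha : a * C.bar a = 1) :
    (∀ v : V3, C.form v S.u = 0 → g.1.1 *ᵥ v = a • v) ∧
      (a ^ 3 ≠ 1 → ∀ z : UPoint C 3, g • z = z ↔ S.OnL z) := by
  obtain ⟨b, hb⟩ := (smul_pt_eq_iff g S.P.ff S.P.f_ne_zero S.P.ff S.P.f_ne_zero).1 hy
  obtain ⟨hab, hu⟩ := S.diag_u he hb
  have hba : b = a := C.bar.injective (mul_left_cancel₀ (left_ne_zero_of_mul_eq_one hab) (hab.trans ha.symm))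
  subst hba
  have h1 : ∀ v : V3, C.form v S.u = 0 → g.1.1 *ᵥ v = b • v := by
    intro v hv
    have hd := S.decomp v
    rw [hv, zero_smul, add_zero] at hd
    rw [hd, Matrix.mulVec_add, Matrix.mulVec_smul, Matrix.mulVec_smul, he, hb, smul_add, smul_comm b,
      smul_comm b]
  refine ⟨h1, fun h3 z => ?_⟩
  obtain ⟨v, hv, hv0, rfl⟩ := upt_surj C z
  rw [smul_pt_eq_iff, S.onL_upt]
  refine ⟨fun ⟨l, hl⟩ => ?_, fun h => ⟨b, h1 v h⟩⟩
  by_contra hγ
  have hd := S.decomp v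
  have hl' := hl
  rw [hd, Matrix.mulVec_add, Matrix.mulVec_add, Matrix.mulVec_smul, Matrix.mulVec_smul, Matrix.mulVec_smul,
    he, hb, hu] at hl'
  have k0 := congrArg (fun w => C.form w S.P.f) hl'
  have k1 := congrArg (fun w => C.form w S.P.e) hl'
  have k2 := congrArg (fun w => C.form w S.u) hl'
  simp only [C.form_add_left, C.form_smul_left, S.P.ee, S.P.ff, S.P.ef, S.P.fe, S.eu, S.fu, S.ue, S.uf, S.huu,
    mul_zero, zero_add, add_zero, mul_one] at k0 k1 k2
  have hl2 : C.bar b / b = l := mul_left_cancel₀ hγ (k2.trans (mul_comm _ _))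
  have hne : b ≠ l := fun h => h3 (by
    rw [← hl2, eq_div_iff (left_ne_zero_of_mul_eq_one ha)] at h
    calc b ^ 3 = b * (b * b) := by ring
      _ = 1 := by rw [h, ha])
  have z0 : C.form v S.P.f = 0 := by
    by_contra h
    exact hne (mul_left_cancel₀ h (k0.trans (mul_comm _ _)))
  have z1 : C.form v S.P.e = 0 := by
    by_contra h
    exact hne (mul_left_cancel₀ h (k1.trans (mul_comm _ _)))
  rw [z0, z1, zero_smul, zero_smul, zero_add, zero_add] at hd
  have := hv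
  rw [hd, C.form_smul_left, C.form_smul_right, S.huu, mul_one] at this
  rcases mul_eq_zero.1 this with h | h
  · exact hγ h
  · exact hγ (by simpa using h)

theorem eq_one_of_eich_sq {g : G3} (hg : g ∈ S.P.eichGroup) (h2 : g * g = 1) (hodd : (2 : F) ≠ 0) : g = 1 := by
  obtain ⟨h1, h3⟩ := S.eich_mul hg hg
  rw [h2, pv_one, ← two_mul] at h1
  rw [h2, tauv_one] at h3
  have hp : S.pv g = 0 := (mul_eq_zero.1 h1.symm).resolve_left hodd
  rw [hp, zero_mul, sub_zero, ← two_mul] at h3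
  exact S.eq_one_of_coords hg hp ((mul_eq_zero.1 h3.symm).resolve_left hodd)

end Frame

theorem exists_iso_in_span {x y : V3} (hxy : LinearIndependent F ![x, y]) :
    ∃ a b : F, (a ≠ 0 ∨ b ≠ 0) ∧ C.form (a • x + b • y) (a • x + b • y) = 0 := by
  by_cases hx : C.form x x = 0
  · exact ⟨1, 0, Or.inl one_ne_zero, by simp [hx]⟩
  set y' := y + (-(C.form y x / C.form x x)) • x with hy'
  have h1 : C.form y' x = 0 := by
    rw [hy', C.form_add_left, C.form_smul_left]
    field_simp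
    ring
  obtain ⟨l, hl⟩ := C.exists_norm (c := -(C.form y' y') / C.form x x)
    (by rw [map_div₀, map_neg, C.form_self_fixed, C.form_self_fixed])
  refine ⟨l + -(C.form y x / C.form x x), 1, Or.inr one_ne_zero, ?_⟩
  rw [show (l + -(C.form y x / C.form x x)) • x + (1 : F) • y = l • x + y' by rw [hy']; module]
  simp only [C.form_add_left, C.form_add_right, C.form_smul_left, C.form_smul_right, h1, C.form_swap_zero h1]
  rw [eq_div_iff hx] at hl
  linear_combination hl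

/-- In odd characteristic an involution has an isotropic eigenvector with eigenvalue minus one and a fixed line. -/
theorem involution_frame (h2 : (2 : F) ≠ 0) {z : G3} (hz : z * z = 1) (hz1 : z ≠ 1) :
    ∃ S : Frame C, z.1.1 *ᵥ S.P.e = (-1 : F) • S.P.e ∧ z • pt' S.P = pt' S.P := by
  have hzz : ∀ x, z.1.1 *ᵥ (z.1.1 *ᵥ x) = x := fun x => by rw [← suMat_mulVec_mul, hz, su_one_mulVec]
  set A : Submodule F V3 := LinearMap.range (Matrix.mulVecLin z.1.1 + LinearMap.id)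
  set B : Submodule F V3 := LinearMap.range (Matrix.mulVecLin z.1.1 - LinearMap.id)
  have hA : ∀ x ∈ A, z.1.1 *ᵥ x = (1 : F) • x := by
    rintro _ ⟨x, rfl⟩
    simp [Matrix.mulVec_add, hzz, add_comm]
  have hB : ∀ x ∈ B, z.1.1 *ᵥ x = (-1 : F) • x := by
    rintro _ ⟨x, rfl⟩
    simp [Matrix.mulVec_sub, hzz]
  have hsup : A ⊔ B = ⊤ := by
    refine eq_top_iff.2 fun x _ => Submodule.mem_sup.2
      ⟨(2 : F)⁻¹ • (z.1.1 *ᵥ x + x), A.smul_mem _ ⟨x, by simp⟩,
       -((2 : F)⁻¹) • (z.1.1 *ᵥ x - x), B.smul_mem _ ⟨x, by simp⟩, ?_⟩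
    rw [show (2 : F)⁻¹ • (z.1.1 *ᵥ x + x) + -((2 : F)⁻¹) • (z.1.1 *ᵥ x - x) = ((2 : F)⁻¹ * 2) • x by module,
      inv_mul_cancel₀ h2, one_smul]
  have hdim : 2 ≤ Module.finrank F A ∨ 2 ≤ Module.finrank F B := by
    have h := Submodule.finrank_sup_add_finrank_inf_eq A B
    rw [hsup, finrank_top, Module.finrank_fin_fun] at h
    omega
  have key : ∀ (W : Submodule F V3) (c : F), (∀ x ∈ W, z.1.1 *ᵥ x = c • x) → 2 ≤ Module.finrank F W →
      ∃ v, v ≠ 0 ∧ C.form v v = 0 ∧ z.1.1 *ᵥ v = c • v := by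
    intro W c hW hd
    obtain ⟨x, y, hxy⟩ : ∃ x y : W, LinearIndependent F ![x.1, y.1] := by
      obtain ⟨f, hf⟩ := exists_linearIndependent_of_le_finrank (R := F) (M := W) hd
      refine ⟨f 0, f 1, LinearIndependent.pair_iff.2 fun s t h => ?_⟩
      have h' := Fintype.linearIndependent_iff.1 hf ![s, t] (by
        rw [Fin.sum_univ_two]
        exact Subtype.ext h)
      exact ⟨h' 0, h' 1⟩
    obtain ⟨a, b, hab, h0⟩ := exists_iso_in_span (C := C) hxy
    refine ⟨a • x.1 + b • y.1, fun h => ?_, h0, hW _ (W.add_mem (W.smul_mem a x.2) (W.smul_mem b y.2))⟩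
    obtain ⟨ha, hb⟩ := LinearIndependent.pair_iff.1 hxy a b h
    exact hab.elim (fun h => h ha) fun h => h hb
  obtain ⟨v, hv0, hv, hzv⟩ : ∃ v, v ≠ 0 ∧ C.form v v = 0 ∧ z.1.1 *ᵥ v = (-1 : F) • v := by
    rcases hdim with h | h
    · obtain ⟨v, hv0, hv, hzv⟩ := key A 1 hA h
      obtain ⟨P, hP⟩ := uPair_exists C hv0 hv
      obtain ⟨S, rfl⟩ := exists_frame P
      refine absurd (S.eq_one_of_eich_sq (S.eichGroup_iff.2 ?_) hz h2) hz1
      rw [hP, hzv, one_smul]
    · exact key B (-1) hB h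
  obtain ⟨w, hw0, hw, hzw, hne⟩ : ∃ w, w ≠ 0 ∧ C.form w w = 0 ∧ z.1.1 *ᵥ w = (-1 : F) • w ∧ C.form v w ≠ 0 := by
    obtain ⟨y, hy⟩ := C.exists_form_eq_one hv0
    set y' := (2 : F)⁻¹ • (y - z.1.1 *ᵥ y) with hy'
    have h1 : C.form y' v = 1 := by
      have h3 : C.form (z.1.1 *ᵥ y) v = -1 := by
        have := C.form_su z y v
        rw [hzv, C.form_smul_right, map_neg, map_one, hy] at this
        linear_combination -this
      rw [hy', C.form_smul_left, C.form_sub_left, hy, h3, sub_neg_eq_add, one_add_one_eq_two, inv_mul_cancel₀ h2]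
    have h1' : C.form v y' = 1 := by rw [← C.bar_form, h1, map_one]
    have hy'z : z.1.1 *ᵥ y' = (-1 : F) • y' := by
      rw [hy', Matrix.mulVec_smul, Matrix.mulVec_sub, hzz]
      module
    obtain ⟨κ, k1, k2⟩ := C.exists_partner hv h1'
    refine ⟨y' + κ • v, fun h => ?_, k1, ?_, by rw [k2]; exact one_ne_zero⟩
    · rw [h, C.form_zero_right] at k2
      exact zero_ne_one k2
    · rw [Matrix.mulVec_add, Matrix.mulVec_smul z.1.1 κ v, hy'z, hzv]
      module
  obtain ⟨S, hS⟩ := exists_frame (C := C)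
    ⟨v, (C.bar (C.form v w))⁻¹ • w, hv, by rw [C.form_smul_left, C.form_smul_right, hw, mul_zero, mul_zero],
      by rw [C.form_smul_right, map_inv₀, C.bar_bar, inv_mul_cancel₀ hne]⟩
  refine ⟨S, by rw [hS]; exact hzv, ?_⟩
  rw [pt', smul_pt_eq_iff]
  exact ⟨-1, by simp only [hS, Matrix.mulVec_smul, hzw]; rw [smul_comm]⟩

end CfsgLib.PGroup.UnitThreeIndex
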