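import Cfsg.Agent.Lib.PGroup.UnitThreeIndex.Coords
import Cfsg.Agent.Lib.Classical.ProjLine

/-!
The stabiliser of a unit vector inside SL₂, and elements of large prime order.
-/

set_option autoImplicit false
set_option linter.unusedSectionVars false

namespace CfsgLib.PGroup.UnitThreeIndex

open scoped Matrix
open Matrix CfsgLib.SU CfsgLib.Classical

variable {F : Type*} [Field F] [Fintype F] {q : ℕ} {C : UCtx F q}

set_option quotPrecheck false

local notation "V3" => (Fin 3 → F)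
local notation "G3" => ↥(Cfsg.SU 3 F q)

namespace Frame

variable (S : Frame C)

/-- The stabiliser of the unit vector. -/
def slice : Subgroup ↥(Cfsg.SU 3 F q) where
  carrier := {g | g.1.1 *ᵥ S.u = S.u}
  one_mem' := su_one_mulVec S.u
  mul_mem' {g h} hg hh := by
    show (g * h).1.1 *ᵥ S.u = S.u
    rw [suMat_mulVec_mul, hh, hg]
  inv_mem' {g} hg := by
    show g⁻¹.1.1 *ᵥ S.u = S.u
    conv_lhs => rw [← (show g.1.1 *ᵥ S.u = S.u from hg), su_inv_mulVec]

/-- The matrix on the pair. -/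
def sliceMat (g : G3) : Matrix (Fin 2) (Fin 2) F :=
  !![C.form (g.1.1 *ᵥ S.P.e) S.P.f, C.form (g.1.1 *ᵥ S.P.f) S.P.f;
     C.form (g.1.1 *ᵥ S.P.e) S.P.e, C.form (g.1.1 *ᵥ S.P.f) S.P.e]

theorem slice_cols {g : G3} (hg : g ∈ S.slice) :
    g.1.1 *ᵥ S.P.e = S.sliceMat g 0 0 • S.P.e + S.sliceMat g 1 0 • S.P.f ∧
      g.1.1 *ᵥ S.P.f = S.sliceMat g 0 1 • S.P.e + S.sliceMat g 1 1 • S.P.f := by
  have hg' : g.1.1 *ᵥ S.u = S.u := hg
  have key : ∀ v : V3, C.form v S.u = 0 →
      g.1.1 *ᵥ v = C.form (g.1.1 *ᵥ v) S.P.f • S.P.e + C.form (g.1.1 *ᵥ v) S.P.e • S.P.f := by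
    intro v hv
    have h0 : C.form (g.1.1 *ᵥ v) S.u = 0 := by
      rw [← hv, ← C.form_su g v S.u, hg']
    conv_lhs => rw [S.decomp (g.1.1 *ᵥ v), h0, zero_smul, add_zero]
  exact ⟨key _ S.eu, key _ S.fu⟩

theorem sliceMat_det {g : G3} (hg : g ∈ S.slice) : (S.sliceMat g).det = 1 := by
  obtain ⟨h1, h2⟩ := S.slice_cols hg
  have hd := S.det_coord g !![S.sliceMat g 0 0, S.sliceMat g 0 1, 0; S.sliceMat g 1 0, S.sliceMat g 1 1, 0; 0, 0, 1]
    fun j => by
      fin_cases j
      · simpa [vecs] using h1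
      · simpa [vecs] using h2
      · simpa [vecs] using (show g.1.1 *ᵥ S.u = S.u from hg)
  rw [Matrix.det_fin_three] at hd
  rw [Matrix.det_fin_two]
  simpa using hd

theorem sliceMat_mul {g h : G3} (hg : g ∈ S.slice) (hh : h ∈ S.slice) :
    S.sliceMat (g * h) = S.sliceMat g * S.sliceMat h := by
  obtain ⟨g1, g2⟩ := S.slice_cols hg
  obtain ⟨h1, h2⟩ := S.slice_cols hh
  have e1 : (g * h).1.1 *ᵥ S.P.e = (S.sliceMat g * S.sliceMat h) 0 0 • S.P.e +
      (S.sliceMat g * S.sliceMat h) 1 0 • S.P.f := by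
    rw [suMat_mulVec_mul, h1, Matrix.mulVec_add, Matrix.mulVec_smul, Matrix.mulVec_smul, g1, g2,
      Matrix.mul_apply, Matrix.mul_apply, Fin.sum_univ_two, Fin.sum_univ_two]
    module
  have e2 : (g * h).1.1 *ᵥ S.P.f = (S.sliceMat g * S.sliceMat h) 0 1 • S.P.e +
      (S.sliceMat g * S.sliceMat h) 1 1 • S.P.f := by
    rw [suMat_mulVec_mul, h2, Matrix.mulVec_add, Matrix.mulVec_smul, Matrix.mulVec_smul, g1, g2,
      Matrix.mul_apply, Matrix.mul_apply, Fin.sum_univ_two, Fin.sum_univ_two]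
    module
  generalize S.sliceMat g * S.sliceMat h = M at e1 e2
  rw [sliceMat, e1, e2]
  ext i j
  fin_cases i <;> fin_cases j <;>
    simp [C.form_add_left, C.form_smul_left, S.P.ee, S.P.ff, S.P.ef, S.P.fe]

theorem sliceMat_one : S.sliceMat 1 = 1 := by
  ext i j
  fin_cases i <;> fin_cases j <;> simp [sliceMat, su_one_mulVec, S.P.ee, S.P.ff, S.P.ef, S.P.fe]

/-- The action on the pair. -/
noncomputable def toSL : ↥S.slice →* Matrix.SpecialLinearGroup (Fin 2) F where
  toFun g := ⟨S.sliceMat g.1, S.sliceMat_det g.2⟩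
  map_one' := Subtype.ext S.sliceMat_one
  map_mul' g h := Subtype.ext (S.sliceMat_mul g.2 h.2)

theorem toSL_injective : Function.Injective S.toSL := by
  intro g h e
  have e' : S.sliceMat g.1 = S.sliceMat h.1 := congrArg Subtype.val e
  obtain ⟨g1, g2⟩ := S.slice_cols g.2
  obtain ⟨h1, h2⟩ := S.slice_cols h.2
  refine Subtype.ext (su_ext fun x => ?_)
  rw [S.decomp x]
  simp only [Matrix.mulVec_add, Matrix.mulVec_smul, g1, g2, h1, h2, e',
    show g.1.1.1 *ᵥ S.u = S.u from g.2, show h.1.1.1 *ᵥ S.u = S.u from h.2]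

theorem card_slice_dvd : Nat.card ↥S.slice ∣ Fintype.card F * ((Fintype.card F - 1) * (Fintype.card F + 1)) := by
  rw [← CfsgLib.Classical.card_sl2]
  exact Subgroup.card_dvd_of_injective _ S.toSL_injective

end Frame

theorem card_stab (hF : Fintype.card F = q ^ 2) (x : UPoint C 3) :
    Nat.card ↥(MulAction.stabilizer G3 x) = q ^ 3 * (q ^ 2 - 1) := by
  have h := Subgroup.card_mul_index (MulAction.stabilizer G3 x)
  rw [index_stab hF, card_su3 C hF, ← mul_assoc] at h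
  exact Nat.eq_of_mul_eq_mul_right (Nat.succ_pos _) h

include C in
/-- An element of suitable prime order fixes no non-zero vector. -/
theorem no_fixed_vector (hF : Fintype.card F = q ^ 2) {r : ℕ} {g : G3} (hg : orderOf g = r)
    (h1 : ¬ r ∣ q ^ 3 * (q ^ 2 - 1)) (h2 : ¬ r ∣ q ^ 2 * ((q ^ 2 - 1) * (q ^ 2 + 1))) {a : V3} (ha0 : a ≠ 0) :
    g.1.1 *ᵥ a ≠ a := by
  intro hga
  by_cases hz : C.form a a = 0
  · refine h1 (hg ▸ card_stab hF (upt C a hz ha0) ▸ (MulAction.stabilizer G3 _).orderOf_dvd_natCard ?_)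
    exact (smul_pt_eq_iff g hz ha0 hz ha0).2 ⟨1, by rw [one_smul, hga]⟩
  obtain ⟨l, hl⟩ := C.exists_norm (c := (C.form a a)⁻¹) (by rw [map_inv₀, C.form_self_fixed])
  obtain ⟨P⟩ := C.exists_pair (n := 3) (by norm_num)
  obtain ⟨S, -⟩ := exists_frame P
  obtain ⟨g₁, hg₁⟩ := PGroup.UnitAll.exists_su_norm_one C (by norm_num) S.huu (v' := l • a)
    (by rw [C.form_smul_left, C.form_smul_right, ← mul_assoc, hl, inv_mul_cancel₀ hz])
  have hmem : g₁⁻¹ * g * g₁ ∈ S.slice := by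
    show (g₁⁻¹ * g * g₁).1.1 *ᵥ S.u = S.u
    rw [suMat_mulVec_mul, suMat_mulVec_mul, hg₁, Matrix.mulVec_smul g.1.1, hga, ← hg₁, su_inv_mulVec]
  have h3 := (S.slice.orderOf_dvd_natCard hmem).trans S.card_slice_dvd
  have hord : orderOf (g₁⁻¹ * g * g₁) = orderOf g :=
    SemiconjBy.orderOf_eq g₁ (show SemiconjBy g₁ (g₁⁻¹ * g * g₁) g by show _ = _; group)
  rw [hord, hg, hF] at h3
  exact h2 h3

/-- The hyperplane and centre of an involution. -/
theorem involution_data (hF : Fintype.card F = q ^ 2) {z : G3} (hz : z * z = 1) (hz1 : z ≠ 1) :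
    ∃ a : V3, a ≠ 0 ∧ ∃ ε : F, (∀ x, C.form x a = 0 → z.1.1 *ᵥ x = ε • x) ∧
      ∀ g : G3, g * z = z * g → ∃ c : F, g.1.1 *ᵥ a = c • a := by
  obtain ⟨p, f, hp, hf, hqp, hch⟩ := PGroup.UnitAll.exists_prime_data hF
  haveI := Fact.mk hp
  haveI := hch
  by_cases h2 : (2 : F) = 0
  · obtain rfl : p = 2 := (Nat.prime_dvd_prime_iff_eq hp Nat.prime_two).1
      ((CharP.cast_eq_zero_iff F p 2).1 (by exact_mod_cast h2))
    obtain ⟨S, hS⟩ := exists_fixed_of_pelement (C := C) hF 2 (g := z) (i := 1) (by rw [pow_one, sq, hz])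
    obtain ⟨-, h3⟩ := S.eich_mul hS hS
    rw [hz, S.tauv_one, ← two_mul, h2, zero_mul, zero_sub, zero_eq_neg] at h3
    have hπ : S.pv z = 0 := by
      rcases mul_eq_zero.1 h3 with h | h
      · exact h
      · simpa using h
    obtain ⟨ht, hzt⟩ := S.eq_tv_of_pv hS hπ
    have hτ : S.tauv z ≠ 0 := fun h => hz1 (S.eq_one_of_coords hS hπ h)
    refine ⟨S.P.e, S.P.e_ne_zero, 1, fun x hx => ?_, fun g hg => ?_⟩
    · rw [hzt, C.tv_mulVec, hx, mul_zero, zero_smul, add_zero, one_smul]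
    · have h4 := C.tv_conj g S.P.e S.P.ee (S.tauv z) ht
      rw [← hzt, hg, mul_inv_cancel_right] at h4
      obtain ⟨x, hx⟩ := C.exists_form_eq_one (su_mulVec_ne_zero g S.P.e_ne_zero)
      have h5 := congrArg (fun A : G3 => A.1.1 *ᵥ x) (hzt.symm.trans h4)
      simp only [C.tv_mulVec, hx, mul_one, add_right_inj] at h5
      refine ⟨C.form x S.P.e, smul_right_injective _ hτ ?_⟩
      show S.tauv z • _ = S.tauv z • _
      rw [← h5, mul_smul]
  · obtain ⟨S, hS, hy⟩ := involution_frame (C := C) h2 hz hz1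
    obtain ⟨hneg, -⟩ := S.onL_of_diag hS hy (by rw [map_neg, map_one, neg_one_mul, neg_neg])
    refine ⟨S.u, fun h => one_ne_zero (α := F) (by rw [← S.huu, h, C.form_zero_left]), -1, hneg, fun g hg => ?_⟩
    obtain ⟨b, hb⟩ := (smul_pt_eq_iff z S.P.ff S.P.f_ne_zero S.P.ff S.P.f_ne_zero).1 hy
    obtain ⟨-, hu⟩ := S.diag_u hS hb
    rw [map_neg, map_one, neg_div_neg_eq, div_one, one_smul] at hu
    have hzw : z.1.1 *ᵥ (g.1.1 *ᵥ S.u) = g.1.1 *ᵥ S.u := by
      rw [← suMat_mulVec_mul, ← hg, suMat_mulVec_mul, hu]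
    set w := g.1.1 *ᵥ S.u
    refine ⟨C.form w S.u, ?_⟩
    have hd := S.decomp w
    set y := C.form w S.P.f • S.P.e + C.form w S.P.e • S.P.f with hy'
    have hyz : z.1.1 *ᵥ y = (-1 : F) • y :=
      hneg y (by rw [hy', C.form_add_left, C.form_smul_left, C.form_smul_left, S.eu, S.fu]; ring)
    rw [hd, Matrix.mulVec_add, hyz, Matrix.mulVec_smul, hu, add_left_inj, neg_one_smul] at hzw
    have : y = 0 := by
      have h' : (2 : F) • y = 0 := by rw [two_smul]; nth_rw 1 [← hzw]; exact neg_add_cancel y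
      exact (smul_eq_zero.1 h').resolve_left h2
    conv_lhs => rw [hd, this, zero_add]

variable (H : Subgroup ↥(Cfsg.SU 3 F q))

theorem conj_pow_iter {G : Type*} [Group G] {z g : G} {i : ℕ} (h : z * g * z⁻¹ = g ^ i) (k : ℕ) :
    z ^ k * g * (z ^ k)⁻¹ = g ^ i ^ k := by
  induction k with
  | zero => simp
  | succ k ih =>
    calc z ^ (k + 1) * g * (z ^ (k + 1))⁻¹ = z * (z ^ k * g * (z ^ k)⁻¹) * z⁻¹ := by rw [pow_succ']; group
      _ = (z * g * z⁻¹) ^ i ^ k := by rw [ih, conj_pow]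
      _ = g ^ i ^ (k + 1) := by rw [h, ← pow_mul, pow_succ', mul_comm]

include C in
/-- The normaliser of a subgroup of large prime order. -/
theorem singer (hF : Fintype.card F = q ^ 2) (p : ℕ) [Fact p.Prime] [CharP F p] {r : ℕ} [Fact r.Prime]
    (hr : r ∣ Nat.card H) (hr2 : ¬ r ^ 2 ∣ Nat.card H) (hrodd : Odd r)
    (h1 : ¬ r ∣ q ^ 3 * (q ^ 2 - 1)) (h2 : ¬ r ∣ q ^ 2 * ((q ^ 2 - 1) * (q ^ 2 + 1))) :
    ∃ R : Sylow r H, ∃ N m : ℕ, N = Nat.card ↥(Subgroup.normalizer (R : Set H)) ∧ Nat.card H = N * m ∧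
      m % r = 1 ∧ r ∣ N ∧ Odd N ∧ Nat.card R = r ∧ (¬ p ∣ r - 1 → ¬ p ∣ N) := by
  classical
  have hp := (Fact.out : p.Prime)
  have hrp := (Fact.out : r.Prime)
  obtain ⟨R⟩ : Nonempty (Sylow r H) := inferInstance
  have hRc : Nat.card R = r := by
    rw [R.card_eq_multiplicity]
    have h3 : (Nat.card H).factorization r = 1 := by
      refine le_antisymm ?_ (hrp.factorization_pos_of_dvd Nat.card_pos.ne' hr)
      by_contra h
      exact hr2 ((pow_dvd_pow r (Nat.succ_le_of_lt (not_le.1 h))).trans (Nat.ordProj_dvd _ _))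
    rw [h3, pow_one]
  set M := Subgroup.normalizer (R : Set H) with hM
  refine ⟨R, Nat.card M, M.index, rfl, (Subgroup.card_mul_index M).symm, ?_, ?_, ?_⟩
  · rw [← R.card_eq_index_normalizer]
    have := card_sylow_modEq_one r H
    rwa [Nat.ModEq, Nat.mod_eq_of_lt hrp.one_lt] at this
  · exact hRc.symm.dvd.trans (Subgroup.card_dvd_of_le Subgroup.le_normalizer)
  obtain ⟨g, hg⟩ : ∃ g : (R : Subgroup H), g ≠ 1 := by
    haveI : Nontrivial (R : Subgroup H) := Finite.one_lt_card_iff_nontrivial.1 (by rw [hRc]; exact hrp.one_lt)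
    exact exists_ne 1
  set g0 : G3 := ((g : H) : G3)
  have hgo : orderOf g0 = r := by
    rw [Subgroup.orderOf_coe, Subgroup.orderOf_coe]
    exact ((Nat.dvd_prime hrp).1 ((orderOf_dvd_natCard g).trans hRc.dvd)).resolve_left fun h => hg (orderOf_eq_one_iff.1 h)
  have hgen : ∀ x : (R : Subgroup H), ∃ i : ℕ, x = g ^ i := fun x => by
    have := (mem_powers_of_prime_card (G := (R : Subgroup H)) (g' := x) hRc hg)
    obtain ⟨i, hi⟩ := this
    exact ⟨i, hi.symm⟩
  have hnofix : ∀ a : V3, a ≠ 0 → g0.1.1 *ᵥ a ≠ a := fun a => no_fixed_vector (C := C) hF hgo h1 h2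
  have hnopt : ∀ x : UPoint C 3, g0 • x ≠ x := fun x hx =>
    h1 (hgo ▸ card_stab hF x ▸ (MulAction.stabilizer G3 x).orderOf_dvd_natCard hx)
  have hconj : ∀ w : M, ∃ i : ℕ, ((w : H) : G3) * g0 * ((w : H) : G3)⁻¹ = g0 ^ i := fun w => by
    have := (Subgroup.mem_normalizer_iff.1 w.2 (g : H)).1 g.2
    obtain ⟨i, hi⟩ := hgen ⟨_, this⟩
    exact ⟨i, congrArg (fun t : (R : Subgroup H) => ((t : H) : G3)) hi⟩
  have hpow : ∀ i j : ℕ, g0 ^ i = g0 ^ j ↔ (i : ZMod r) = j := fun i j => by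
    rw [pow_eq_pow_iff_modEq, hgo, ZMod.natCast_eq_natCast_iff]
  refine ⟨?_, hRc, fun hpr => ?_⟩
  · rw [← Nat.not_even_iff_odd]
    intro he
    obtain ⟨w, hw⟩ := exists_prime_orderOf_dvd_card' (G := M) 2 he.two_dvd
    set z : G3 := ((w : H) : G3)
    have hzo : orderOf z = 2 := by rw [Subgroup.orderOf_coe, Subgroup.orderOf_coe]; exact hw
    have hzz : z * z = 1 := by rw [← sq, ← hzo, pow_orderOf_eq_one]
    have hz1 : z ≠ 1 := fun h => by rw [h, orderOf_one] at hzo; omega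
    obtain ⟨i, hi⟩ := hconj w
    obtain ⟨a, ha0, ε, hε, hcent⟩ := involution_data (C := C) hF hzz hz1
    have hii : (i : ZMod r) * i = 1 := by
      have := conj_pow_iter hi 2
      rw [sq z, hzz, one_mul, inv_one, mul_one] at this
      nth_rw 1 [← pow_one g0] at this
      rw [hpow] at this
      rw [Nat.cast_pow, Nat.cast_one, sq] at this
      exact this.symm
    rcases mul_self_eq_one_iff.1 hii with h | h
    · -- commuting
      have hc : g0 ^ i = g0 := by
        nth_rw 2 [← pow_one g0]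
        rw [hpow, h, Nat.cast_one]
      rw [hc] at hi
      obtain ⟨c, hca⟩ := hcent g0 (mul_inv_eq_iff_eq_mul.1 hi).symm
      have hck : ∀ k : ℕ, (g0 ^ k).1.1 *ᵥ a = c ^ k • a := fun k => by
        induction k with
        | zero => rw [pow_zero, pow_zero, su_one_mulVec, one_smul]
        | succ k ih => rw [pow_succ', suMat_mulVec_mul, ih, Matrix.mulVec_smul, hca, smul_smul, pow_succ]
      have hcr : c ^ r = 1 := by
        have := hck r
        rw [← hgo, pow_orderOf_eq_one, hgo, su_one_mulVec] at this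
        exact (smul_left_injective F ha0 (by simpa using this)).symm
      have hc0 : c ≠ 0 := fun h => by rw [h, zero_pow hrp.ne_zero] at hcr; exact zero_ne_one hcr
      have hcq : c ^ (q ^ 2 - 1) = 1 := hF ▸ FiniteField.pow_card_sub_one_eq_one c hc0
      have hc1 : c = 1 := by
        have hd : orderOf c ∣ Nat.gcd r (q ^ 2 - 1) :=
          Nat.dvd_gcd (orderOf_dvd_of_pow_eq_one hcr) (orderOf_dvd_of_pow_eq_one hcq)
        rw [(Nat.Prime.coprime_iff_not_dvd hrp).2 fun h => h1 (h.trans (dvd_mul_left _ _)), Nat.dvd_one] at hd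
        exact orderOf_eq_one_iff.1 hd
      exact hnofix a ha0 (by rw [hca, hc1, one_smul])
    · -- inverting
      have hinv : g0 ^ i = g0⁻¹ := by
        rw [eq_inv_iff_mul_eq_one, ← pow_succ, ← pow_zero g0, hpow]
        push_cast
        rw [h, neg_add_cancel]
      rw [hinv] at hi
      have hsq : g0 * g0 = g0 * z * g0⁻¹ * z⁻¹ := by
        have : z * g0⁻¹ * z⁻¹ = g0 := by
          calc z * g0⁻¹ * z⁻¹ = (z * g0 * z⁻¹)⁻¹ := by group
            _ = g0 := by rw [hi, inv_inv]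
        conv_lhs => arg 2; rw [← this]
        group
      obtain ⟨x, hx0, hxa, hxga⟩ := C.exists_orth_two (n := 3) le_rfl a (g0.1.1 *ᵥ a)
      have hz' : z⁻¹ = z := inv_eq_of_mul_eq_one_right hzz
      have hεx : ε * ε = 1 := by
        have := hε x hxa
        have h' : x = (ε * ε) • x := by
          conv_lhs => rw [← su_one_mulVec (q := q) x, ← hzz, suMat_mulVec_mul, this, Matrix.mulVec_smul, this,
            smul_smul]
        exact smul_left_injective F hx0 (show (ε * ε) • x = (1 : F) • x by rw [one_smul, ← h'])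
      have hgx : (g0 * g0).1.1 *ᵥ x = x := by
        have h5 : C.form (g0⁻¹.1.1 *ᵥ x) a = 0 := by
          rw [← C.form_su g0, su_mulVec_inv, hxga]
        rw [hsq, hz', suMat_mulVec_mul, suMat_mulVec_mul, suMat_mulVec_mul, hε x hxa, Matrix.mulVec_smul,
          Matrix.mulVec_smul, hε _ h5, Matrix.mulVec_smul, Matrix.mulVec_smul, su_mulVec_inv, smul_smul, hεx,
          one_smul]
      obtain ⟨k, hk⟩ := hrodd
      have hk2 : g0 = (g0 * g0) ^ (k + 1) := by
        rw [← sq, ← pow_mul, show 2 * (k + 1) = r + 1 by omega, pow_succ, ← hgo, pow_orderOf_eq_one, one_mul]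
      refine hnofix x hx0 ?_
      rw [hk2]
      generalize k + 1 = n
      induction n with
      | zero => rw [pow_zero, su_one_mulVec]
      | succ n ih => rw [pow_succ, suMat_mulVec_mul, hgx, ih]
  · intro hpN
    obtain ⟨w, hw⟩ := exists_prime_orderOf_dvd_card' (G := M) p hpN
    set z : G3 := ((w : H) : G3)
    have hzo : orderOf z = p := by rw [Subgroup.orderOf_coe, Subgroup.orderOf_coe]; exact hw
    have hzp : z ^ p = 1 := by rw [← hzo, pow_orderOf_eq_one]
    obtain ⟨i, hi⟩ := hconj w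
    have h3 : (i : ZMod r) ^ p = 1 := by
      have := conj_pow_iter hi p
      rw [hzp, one_mul, inv_one, mul_one] at this
      nth_rw 1 [← pow_one g0] at this
      rw [hpow] at this
      rw [Nat.cast_pow, Nat.cast_one] at this
      exact this.symm
    have hi0 : (i : ZMod r) ≠ 0 := fun h => by rw [h, zero_pow hp.ne_zero] at h3; exact zero_ne_one h3
    have hi1 : (i : ZMod r) = 1 := by
      have hd : orderOf (i : ZMod r) ∣ Nat.gcd p (r - 1) :=
        Nat.dvd_gcd (orderOf_dvd_of_pow_eq_one h3) (orderOf_dvd_of_pow_eq_one (ZMod.pow_card_sub_one_eq_one hi0))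
      rw [(Nat.Prime.coprime_iff_not_dvd hp).2 hpr, Nat.dvd_one] at hd
      exact orderOf_eq_one_iff.1 hd
    have hc : g0 ^ i = g0 := by
      nth_rw 2 [← pow_one g0]
      rw [hpow, hi1, Nat.cast_one]
    rw [hc] at hi
    obtain ⟨S, hS⟩ := exists_fixed_of_pelement (C := C) hF p (g := z) (i := 1) (by rw [pow_one, hzp])
    have hz1 : z ≠ 1 := fun h => by rw [h, orderOf_one] at hzo; exact hp.one_lt.ne hzo
    refine hnopt (pt S.P) (S.eich_fix_only hS hz1 ?_)
    rw [← mul_smul, mul_inv_eq_iff_eq_mul.1 hi, mul_smul, S.eich_smul hS]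

end CfsgLib.PGroup.UnitThreeIndex
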