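import Cfsg.Agent.Lib.PGroup.UnitThreeIndex.Regular
import Cfsg.Agent.Lib.PGroup.UnitThreeIndex.Singer
import Cfsg.Agent.Lib.Classical.SLBasic
import Cfsg.Agent.S0799

/-!
Large subgroups containing a transvection.
-/

set_option autoImplicit false
set_option linter.unusedSectionVars false

namespace CfsgLib.PGroup.UnitThreeIndex

open scoped Matrix
open Matrix CfsgLib.SU CfsgLib.Classical

variable {F : Type*} [Field F] [Fintype F] {q : ℕ} {C : UCtx F q}

set_option quotPrecheck false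

local notation "V3" => (Fin 3 → F)
local notation "G3" => ↥(Cfsg.SU 3 F q)
local notation "PSL2" => Matrix.ProjectiveSpecialLinearGroup (Fin 2) F

variable (H : Subgroup ↥(Cfsg.SU 3 F q))

namespace Frame

/-- The transvections at the point inside a subgroup. -/
noncomputable def wgrp (S : Frame C) (H : Subgroup ↥(Cfsg.SU 3 F q)) : Subgroup ↥(Cfsg.SU 3 F q) :=
  (H ⊓ S.slice) ⊓ S.P.eichGroup

theorem mem_wgrp (S : Frame C) {g : G3} : g ∈ S.wgrp H ↔ g ∈ H ∧ g ∈ S.P.eichGroup ∧ S.pv g = 0 :=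
  ⟨fun ⟨⟨h1, h2⟩, h3⟩ => ⟨h1, h3, (S.pv_mem_fix h3).1 h2⟩, fun ⟨h1, h3, h2⟩ => ⟨⟨h1, (S.pv_mem_fix h3).2 h2⟩, h3⟩⟩

theorem wgrp_tauv_inj (S : Frame C) {g h : G3} (hg : g ∈ S.wgrp H) (hh : h ∈ S.wgrp H) (e : S.tauv g = S.tauv h) :
    g = h := by
  obtain ⟨-, g1, g2⟩ := (S.mem_wgrp H).1 hg
  obtain ⟨-, h1, h2⟩ := (S.mem_wgrp H).1 hh
  obtain ⟨tg, eg⟩ := S.eq_tv_of_pv g1 g2
  obtain ⟨th, eh⟩ := S.eq_tv_of_pv h1 h2
  rw [eg, eh]
  exact su_ext fun x => by rw [C.tv_mulVec, C.tv_mulVec, e]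

theorem card_wgrp_le (S : Frame C) (hF : Fintype.card F = q ^ 2) :
    Nat.card ↥(S.wgrp H) ≤ q ∧ (Nat.card ↥(S.wgrp H) = q →
      ∀ t, ∀ ht : t + C.bar t = 0, C.tv S.P.e S.P.ee t ht ∈ H) := by
  let f : ↥(S.wgrp H) → ↥(UnitIndex.zset C) := fun g => ⟨S.tauv g.1, by
    obtain ⟨-, g1, g2⟩ := (S.mem_wgrp H).1 g.2
    exact (S.eq_tv_of_pv g1 g2).1⟩
  have hf : Function.Injective f := fun a b e =>
    Subtype.ext (S.wgrp_tauv_inj H a.2 b.2 (congrArg Subtype.val e))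
  refine ⟨le_of_le_of_eq (Nat.card_le_card_of_injective f hf) (UnitIndex.card_zset hF), fun h t ht => ?_⟩
  have hb : Function.Bijective f := (Nat.bijective_iff_injective_and_card f).2 ⟨hf, h.trans (UnitIndex.card_zset hF).symm⟩
  obtain ⟨g, hg⟩ := hb.2 ⟨t, ht⟩
  obtain ⟨g0, g1, g2⟩ := (S.mem_wgrp H).1 g.2
  obtain ⟨tg, eg⟩ := S.eq_tv_of_pv g1 g2
  have e : S.tauv g.1 = t := congrArg Subtype.val hg
  rw [show C.tv S.P.e S.P.ee t ht = g.1 by rw [eg]; exact su_ext fun x => by rw [C.tv_mulVec, C.tv_mulVec, e]]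
  exact g0

end Frame

theorem tv_everywhere (htr : ∀ x y : UPoint C 3, ∃ k ∈ H, k • x = y) (S₀ : Frame C)
    (hW : ∃ g ∈ S₀.wgrp H, g ≠ 1) (S : Frame C) : ∃ g ∈ S.wgrp H, g ≠ 1 := by
  obtain ⟨g, hg, hg1⟩ := hW
  obtain ⟨g0, ge, gp⟩ := (S₀.mem_wgrp H).1 hg
  obtain ⟨ht, eg⟩ := S₀.eq_tv_of_pv ge gp
  obtain ⟨h, hh, hx⟩ := htr (pt S₀.P) (pt S.P)
  obtain ⟨c, hc⟩ := (smul_pt_eq_iff h S₀.P.ee S₀.P.e_ne_zero S.P.ee S.P.e_ne_zero).1 hx
  have hconj : h * g * h⁻¹ = C.tv (h.1.1 *ᵥ S₀.P.e) (by rw [C.form_su, S₀.P.ee]) (S₀.tauv g) ht := by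
    conv_lhs => rw [eg]
    exact C.tv_conj h _ _ _ ht
  refine ⟨h * g * h⁻¹, (S.mem_wgrp H).2 ⟨mul_mem (mul_mem hh g0) (inv_mem hh), S.eichGroup_iff.2 ?_, ?_⟩, fun e => hg1 ?_⟩
  · rw [hconj, C.tv_mulVec, hc, C.form_smul_right, S.P.ee, mul_zero, mul_zero, zero_smul, add_zero]
  · rw [Frame.pv, hconj, C.tv_mulVec, hc, C.form_add_left, C.form_smul_left, C.form_smul_left, S.fu, S.eu, mul_zero,
      mul_zero, add_zero]
  · calc g = h⁻¹ * (h * g * h⁻¹) * h := by group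
      _ = 1 := by rw [e]; group

include C in
theorem top_of_full (hF : Fintype.card F = q ^ 2) (hq : 3 ≤ q) (htr : ∀ x y : UPoint C 3, ∃ k ∈ H, k • x = y)
    (S : Frame C) (hfull : ∀ t, ∀ ht : t + C.bar t = 0, C.tv S.P.e S.P.ee t ht ∈ H) : H = ⊤ := by
  rw [eq_top_iff, ← CfsgLib.Perm.Trans.Unit.su_closure hF 3 le_rfl (by omega), Subgroup.closure_le]
  rintro A ⟨v, c, hv0, hA⟩
  have hv0' : C.form v v = 0 := by rw [← C.hermForm_eq]; exact hv0
  have hmv : ∀ x, A.1.1 *ᵥ x = x + (c * C.form x v) • v := fun x => by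
    rw [hA, CfsgLib.Perm.Trans.Unit.unitaryTransvection_mulVec, Cfsg.hermForm, C.hermForm_eq]
  rcases eq_or_ne v 0 with hv | hv
  · rw [show A = 1 from su_ext fun x => by rw [su_one_mulVec, hmv, hv, smul_zero, add_zero]]
    exact one_mem H
  have hc : c + C.bar c = 0 := by
    obtain ⟨x, hx⟩ := C.exists_form_eq_one hv
    have := C.form_su A x x
    rw [hmv, C.form_add_left, C.form_add_right, C.form_add_right, C.form_smul_left, C.form_smul_left,
      C.form_smul_right, C.form_smul_right, hx, show C.form v x = 1 by rw [← C.bar_form, hx, map_one], hv0',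
      mul_one, mul_one, mul_zero, mul_zero, add_zero, mul_one] at this
    linear_combination this
  obtain ⟨h, hh, hx⟩ := htr (pt S.P) (upt C v hv0' hv)
  obtain ⟨k, hk⟩ := (smul_pt_eq_iff h S.P.ee S.P.e_ne_zero hv0' hv).1 hx
  have hk0 : k ≠ 0 := fun e => su_mulVec_ne_zero h S.P.e_ne_zero (by rw [hk, e, zero_smul])
  have hbk : C.bar k ≠ 0 := by simpa using hk0
  have ht : c / (k * C.bar k) + C.bar (c / (k * C.bar k)) = 0 := by
    rw [map_div₀, C.norm_fixed, ← add_div, hc, zero_div]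
  have he : A = h * C.tv S.P.e S.P.ee _ ht * h⁻¹ := by
    rw [C.tv_conj]
    refine su_ext fun x => ?_
    simp only [hmv, C.tv_mulVec, hk, C.form_smul_right, smul_smul]
    congr 2
    field_simp
  rw [he]
  exact mul_mem (mul_mem hh (hfull _ ht)) (inv_mem hh)

/-- An element of prime power order of `PSL₂` has trace of square four. -/
theorem trace_sq_of_pelement (p : ℕ) [Fact p.Prime] [CharP F p] (M : Matrix.SpecialLinearGroup (Fin 2) F) {k : ℕ}
    (h : (QuotientGroup.mk' (Subgroup.center _) M : PSL2) ^ p ^ k = 1) : M.1.trace * M.1.trace = 4 := by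
  haveI : ExpChar F p := ExpChar.prime Fact.out
  rw [← map_pow, QuotientGroup.mk'_apply, QuotientGroup.eq_one_iff, Matrix.SpecialLinearGroup.mem_center_iff] at h
  obtain ⟨c, hc, hM⟩ := h
  rw [Fintype.card_fin] at hc
  obtain ⟨d, hd⟩ := (bijective_iterateFrobenius F p k).2 c
  rw [iterateFrobenius_def] at hd
  have hd2 : d ^ 2 = 1 := (bijective_iterateFrobenius F p k).1 (by
    simp only [iterateFrobenius_def, one_pow]
    rw [← pow_mul, mul_comm, pow_mul, hd, hc])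
  have hcomm : Commute M.1 (Matrix.scalar (Fin 2) d) := (Matrix.scalar_commute d (fun r => Commute.all d r) M.1).symm
  have hnil : IsNilpotent (M.1 - Matrix.scalar (Fin 2) d) := ⟨p ^ k, by
    rw [sub_pow_char_pow_of_commute p k hcomm, ← map_pow, hd, hM, Matrix.SpecialLinearGroup.coe_pow, sub_self]⟩
  have htr := (Matrix.isNilpotent_trace_of_isNilpotent hnil).eq_zero
  rw [Matrix.trace_sub, Matrix.scalar_apply, Matrix.trace_diagonal, Fin.sum_univ_two, sub_eq_zero] at htr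
  rw [htr]
  linear_combination 4 * hd2

theorem card_dihedral_case {N k : ℕ} (hN : N = k ∨ N = 2 * k) {p : ℕ} (hp : p.Prime) (hk : ¬ p ∣ k) (hpN : p ∣ N) :
    p = 2 := by
  rcases hN with rfl | rfl
  · exact absurd hpN hk
  · exact (Nat.prime_dvd_prime_iff_eq hp Nat.prime_two).1 ((hp.dvd_mul.1 hpN).resolve_right hk)

theorem subfield_arith {p f a c : ℕ} (hp : p.Prime) (hc : c = 1 ∨ (c = 2 ∧ p ≠ 2)) (ha : 0 < a) (haf : a ≤ f)
    (h : p ^ f + 1 ∣ c * ((p ^ a) ^ 2 - 1)) : a = f := by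
  by_contra hne
  have haf' : a < f := lt_of_le_of_ne haf hne
  have hp2 := hp.two_le
  rw [← pow_mul, mul_comm a 2] at h
  have h1 : 1 ≤ p ^ (2 * a) := Nat.one_le_pow _ _ hp.pos
  rcases lt_trichotomy (2 * a) f with hlt | heq | hgt
  · have h2 : p * p ^ (2 * a) ≤ p ^ f := by
      rw [← pow_succ']; exact Nat.pow_le_pow_right hp.pos hlt
    have h3 : c * (p ^ (2 * a) - 1) < p ^ f + 1 := by
      rcases hc with rfl | ⟨rfl, -⟩
      · have : 1 * p ^ (2 * a) ≤ p * p ^ (2 * a) := Nat.mul_le_mul_right _ hp.one_lt.le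
        omega
      · have : 2 * p ^ (2 * a) ≤ p * p ^ (2 * a) := Nat.mul_le_mul_right _ hp2
        omega
    have h4 := Nat.le_of_dvd (Nat.mul_pos (by rcases hc with rfl | ⟨rfl, -⟩ <;> norm_num)
      (by have : 2 ≤ p ^ (2 * a) := hp2.trans (Nat.le_self_pow (by omega) p); omega)) h
    omega
  · rw [← heq] at h
    have h4 : 4 ≤ p ^ (2 * a) := le_trans (by norm_num) ((Nat.pow_le_pow_left hp2 2).trans
      (Nat.pow_le_pow_right hp.pos (by omega : 2 ≤ 2 * a)))
    obtain ⟨i, hi⟩ := h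
    rcases hc with rfl | ⟨rfl, -⟩
    · rcases i with _ | i
      · omega
      · rw [mul_add] at hi
        omega
    · rcases i with _ | _ | i
      · omega
      · omega
      · rw [mul_add, mul_add] at hi
        omega
  · obtain ⟨b, hb⟩ : ∃ b, 2 * a = f + b ∧ b < f := ⟨2 * a - f, by omega, by omega⟩
    have hbf : p * p ^ b ≤ p ^ f := by rw [← pow_succ']; exact Nat.pow_le_pow_right hp.pos hb.2
    have h5 : 2 ≤ p ^ b := hp2.trans (Nat.le_self_pow (by omega) p)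
    have h6 : c * (p ^ (2 * a) - 1) + c * (p ^ b + 1) = c * p ^ b * (p ^ f + 1) := by
      have : p ^ (2 * a) = p ^ f * p ^ b := by rw [hb.1, pow_add]
      rw [← mul_add, this, show p ^ f * p ^ b - 1 + (p ^ b + 1) = p ^ f * p ^ b + p ^ b by omega]
      ring
    have h7 : p ^ f + 1 ∣ c * (p ^ b + 1) := (Nat.dvd_add_right h).1 (h6 ▸ dvd_mul_left _ _)
    have h8 := Nat.le_of_dvd (Nat.mul_pos (by rcases hc with rfl | ⟨rfl, -⟩ <;> norm_num) (by omega)) h7
    rcases hc with rfl | ⟨rfl, hp3⟩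
    · have : 2 * p ^ b ≤ p * p ^ b := Nat.mul_le_mul_right _ hp2
      omega
    · have : 3 * p ^ b ≤ p * p ^ b := Nat.mul_le_mul_right _ (by omega)
      omega

theorem alt_arith {p f b q w ε N : ℕ} (hp : p.Prime) (hqp : q = p ^ f) (hq : 3 ≤ q) (h5 : q ≠ 5) (hb : w = p ^ b)
    (hb0 : 0 < b) (hwq : w ≤ q) (hεp : ε = 1 ∨ (ε = 2 ∧ p ≠ 2)) (hN : N = 12 ∨ N = 24 ∨ N = 60) (hwN : w ∣ N)
    (hq1 : q + 1 ∣ ε * N) : w = q ∨ (p = 2 ∧ w = 2) ∨ (q = 9 ∧ w = 3) := by
  have hN0 : ε * N ∣ 2 ^ 4 * 3 * 5 ∧ (ε = 1 → N ∣ 2 ^ 4 * 3 * 5) := by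
    rcases hεp with rfl | ⟨rfl, -⟩ <;> rcases hN with rfl | rfl | rfl <;> norm_num
  have hpN : p ∣ 2 ^ 4 * 3 * 5 := ((hb ▸ dvd_pow_self p hb0.ne').trans hwN).trans ((dvd_mul_left N ε).trans hN0.1)
  have hq120 : q + 1 ≤ 240 := Nat.le_of_dvd (by norm_num) (hq1.trans hN0.1)
  have hp235 : p = 2 ∨ p = 3 ∨ p = 5 := by
    rcases hp.dvd_mul.1 hpN with h | h
    · rcases hp.dvd_mul.1 h with h | h
      · exact Or.inl ((Nat.prime_dvd_prime_iff_eq hp Nat.prime_two).1 (hp.dvd_of_dvd_pow h))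
      · exact Or.inr (Or.inl ((Nat.prime_dvd_prime_iff_eq hp Nat.prime_three).1 h))
    · exact Or.inr (Or.inr ((Nat.prime_dvd_prime_iff_eq hp Nat.prime_five).1 h))
  have hbf : b ≤ f := (Nat.pow_le_pow_iff_right hp.one_lt).1 (hb ▸ hqp ▸ hwq)
  have hwN' : w ∣ 2 ^ 4 * 3 * 5 := hwN.trans ((dvd_mul_left N ε).trans hN0.1)
  subst hb hqp
  have hf8 : f < 8 := by
    by_contra h
    have : 2 ^ 8 ≤ p ^ f := (Nat.pow_le_pow_left hp.two_le 8).trans (Nat.pow_le_pow_right hp.pos (by omega))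
    omega
  rcases hp235 with rfl | rfl | rfl
  · rcases hεp with rfl | ⟨-, h⟩
    · rcases hN with rfl | rfl | rfl <;> interval_cases f <;> interval_cases b
      all_goals (first | (norm_num at hq1; done) | (norm_num at hwN; done) | (norm_num at hq; done) | norm_num)
    · exact absurd rfl h
  · have hf : f < 5 := (Nat.pow_lt_pow_iff_right (show 1 < 3 by norm_num)).1 (by omega : 3 ^ f < 3 ^ 5)
    rcases hεp with rfl | ⟨rfl, -⟩ <;> rcases hN with rfl | rfl | rfl <;> interval_cases f <;> interval_cases b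
    all_goals (first | (norm_num at hq1; done) | (norm_num at hwN; done) | (norm_num at hq; done) | norm_num)
  · have hf : f < 4 := (Nat.pow_lt_pow_iff_right (show 1 < 5 by norm_num)).1 (by omega : 5 ^ f < 5 ^ 4)
    rcases hεp with rfl | ⟨rfl, -⟩ <;> rcases hN with rfl | rfl | rfl <;> interval_cases f
    all_goals (first | (norm_num at hq1; done) | (norm_num at h5; done) | (norm_num at hq; done) | norm_num)

/-- The orders of chord stabilisers, from the list of subgroups of `PSL₂`. -/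
theorem chord_group_cases (hF : Fintype.card F = q ^ 2) (hq : 3 ≤ q) (h5 : q ≠ 5) {p : ℕ} [Fact p.Prime] [CharP F p]
    {f : ℕ} (hf : 0 < f) (hqp : q = p ^ f) (hW : ∀ S : Frame C, ∃ g ∈ S.wgrp H, g ≠ 1) (S : Frame C) :
    Nat.card ↥(S.wgrp H) = q ∨ (p = 2 ∧ Nat.card ↥(S.wgrp H) = 2) ∨ (q = 9 ∧ Nat.card ↥(S.wgrp H) = 3) := by
  classical
  have hp := (Fact.out : p.Prime)
  have hq0 : 0 < q := by omega
  set K := H ⊓ S.slice with hKdef
  -- transitivity on the chord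
  have hinv : ∀ k ∈ K, ∀ z ∈ {z | S.OnL z}, k • z ∈ {z | S.OnL z} := by
    rintro k hk z ⟨v, hv, hv0, hvu, rfl⟩
    rw [Set.mem_setOf_eq, smul_pt, S.onL_upt]
    have h : k.1.1 *ᵥ S.u = S.u := hk.2
    rw [← hvu, ← C.form_su k v S.u, h]
  have hel : ∀ z ∈ {z | S.OnL z}, ∃ g ∈ K, (∃ i, g ^ p ^ i = 1) ∧ g • z = z ∧
      ∀ y ∈ {z | S.OnL z}, g • y = y → y = z := by
    intro z hz
    obtain ⟨T, rfl⟩ := exists_frame_at z
    obtain ⟨g, hg, hg1⟩ := hW T
    obtain ⟨g0, ge, gp⟩ := (T.mem_wgrp H).1 hg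
    obtain ⟨ht, eg⟩ := T.eq_tv_of_pv ge gp
    refine ⟨g, ⟨g0, ?_⟩, exists_pow_of_eich T p ge, T.eich_smul ge, fun y _ hy => T.eich_fix_only ge hg1 hy⟩
    show g.1.1 *ᵥ S.u = S.u
    have : C.form T.P.e S.u = 0 := (S.onL_upt T.P.ee T.P.e_ne_zero).1 hz
    rw [eg, C.tv_mulVec, C.form_swap_zero this, mul_zero, zero_smul, add_zero]
  have horb : MulAction.orbit K (pt S.P) = {z | S.OnL z} := by
    refine Set.eq_of_subset_of_subset ?_ fun y hy => ?_
    · rintro _ ⟨k, rfl⟩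
      exact hinv k.1 k.2 _ S.onL_pt
    · obtain ⟨k, hk, hk'⟩ := gleason K {z | S.OnL z} p hinv hel _ S.onL_pt y hy
      exact ⟨⟨k, hk⟩, hk'⟩
  have hKcard : Nat.card K = (q + 1) * Nat.card ↥(S.bgrp K) := by
    have h1 := Subgroup.card_eq_card_quotient_mul_card_subgroup (MulAction.stabilizer K (pt S.P))
    rw [← Nat.card_congr (MulAction.orbitEquivQuotientStabilizer K (pt S.P)), horb] at h1
    rw [h1]
    congr 1
    · exact S.card_onL hF
    · exact Nat.card_congr ⟨fun g => ⟨g.1.1, g.1.2, g.2⟩, fun g => ⟨⟨g.1, g.2.1⟩, g.2.2⟩, fun g => rfl, fun g => rfl⟩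
  set e' := S.tval K with he'def
  have he' : e' ∣ q - 1 := by
    obtain ⟨g, hg, hord⟩ := S.exists_rat_orderOf K
    rw [he'def, ← hord]
    have hge := S.mem_stab_iff.1 hg.2
    obtain ⟨r, hr⟩ := S.mulVec_u hge
    rw [show g.1.1 *ᵥ S.u = S.u from hg.1.2] at hr
    have h1 := congrArg (fun v => C.form v S.u) hr
    simp only [C.form_add_left, C.form_smul_left, S.huu, S.eu, mul_zero, add_zero, mul_one] at h1
    have ha0 := S.rat_ne_zero hg.2
    rw [eq_comm, div_eq_one_iff_eq ha0] at h1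
    exact orderOf_dvd_of_pow_eq_one ((fixed_iff_pow ha0).1 h1)
  obtain ⟨b, hb⟩ : ∃ b, Nat.card ↥(S.wgrp H) = p ^ b :=
    ((S.P.isPGroup_eichGroup p).to_le (inf_le_right : S.wgrp H ≤ _)).exists_card_eq
  set w := Nat.card ↥(S.wgrp H) with hwdef
  have hw1 : 1 < w := by
    obtain ⟨g, hg, hg1⟩ := hW S
    haveI : Nontrivial ↥(S.wgrp H) := ⟨⟨⟨g, hg⟩, 1, fun h => hg1 (congrArg Subtype.val h)⟩⟩
    exact Finite.one_lt_card
  have hb0 : 0 < b := Nat.pos_of_ne_zero fun h => by rw [hb, h, pow_zero] at hw1; omega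
  have hwq : w ≤ q := (S.card_wgrp_le H hF).1
  have hKc : Nat.card K = (q + 1) * (w * e') := by
    rw [hKcard, S.card_bgrp]
    rfl
  have hpq : p ∣ q := hqp ▸ dvd_pow_self p hf.ne'
  have hcopq : Nat.Coprime p (q + 1) := hp.coprime_iff_not_dvd.2 fun h => hp.not_dvd_one ((Nat.dvd_add_right hpq).1 h)
  have hcope : Nat.Coprime p e' := Nat.Coprime.coprime_dvd_right he' (hp.coprime_iff_not_dvd.2 fun h =>
    hp.not_dvd_one (by simpa [Nat.sub_sub_self (show 1 ≤ q by omega)] using Nat.dvd_sub hpq h))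
  -- the projective image
  let φ : ↥K →* PSL2 :=
    ((QuotientGroup.mk' (Subgroup.center (Matrix.SpecialLinearGroup (Fin 2) F))).comp S.toSL).comp
      (Subgroup.inclusion inf_le_right)
  obtain ⟨ε, hε, hεp⟩ : ∃ ε, Nat.card K = ε * Nat.card φ.range ∧ (ε = 1 ∨ (ε = 2 ∧ p ≠ 2)) := by
    refine ⟨Nat.card φ.ker, by rw [← Subgroup.index_ker, Subgroup.card_mul_index], ?_⟩
    have hd : Nat.card φ.ker ∣ Nat.gcd 2 (Fintype.card F - 1) := by
      rw [← card_center_sl (F := F) (n := 2) (by norm_num)]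
      let ψ : ↥φ.ker →* ↥(Subgroup.center (Matrix.SpecialLinearGroup (Fin 2) F)) :=
        ((S.toSL.comp (Subgroup.inclusion inf_le_right)).comp φ.ker.subtype).codRestrict _ fun g =>
          (QuotientGroup.eq_one_iff _).1 (MonoidHom.mem_ker.1 g.2)
      refine Subgroup.card_dvd_of_injective ψ fun a c h => Subtype.ext ?_
      exact Subgroup.inclusion_injective inf_le_right (S.toSL_injective (congrArg Subtype.val h))
    rcases (Nat.dvd_prime Nat.prime_two).1 (hd.trans (Nat.gcd_dvd_left _ _)) with h | h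
    · exact Or.inl h
    · refine Or.inr ⟨h, ?_⟩
      rintro rfl
      rw [h, hF] at hd
      have h2 : 2 ∣ q ^ 2 := Dvd.dvd.pow hpq (by norm_num)
      have h3 := Nat.dvd_sub h2 (hd.trans (Nat.gcd_dvd_right _ _))
      rw [show q ^ 2 - (q ^ 2 - 1) = 1 by have := q_sq_pos hF; omega] at h3
      omega
  -- two unipotent elements
  obtain ⟨ga, hga, hga1⟩ := hW S
  obtain ⟨S', hS'⟩ : ∃ S' : Frame C, S'.P.e = S.P.f ∧ S'.P.f = S.P.e ∧ S'.u = S.u :=
    ⟨⟨⟨S.P.f, S.P.e, S.P.ff, S.P.ee, S.P.fe⟩, S.u, ⟨S.hu.2, S.hu.1⟩, S.huu, fun w hw => S.span w ⟨hw.2, hw.1⟩⟩,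
      rfl, rfl, rfl⟩
  obtain ⟨gb, hgb, hgb1⟩ := hW S'
  obtain ⟨ga0, gae, gap⟩ := (S.mem_wgrp H).1 hga
  obtain ⟨gb0, gbe, gbp⟩ := (S'.mem_wgrp H).1 hgb
  obtain ⟨hta, ea⟩ := S.eq_tv_of_pv gae gap
  obtain ⟨htb, eb⟩ := S'.eq_tv_of_pv gbe gbp
  set ta := S.tauv ga with hta_def
  set tb := S'.tauv gb with htb_def
  have hta0 : ta ≠ 0 := fun h => hga1 (S.eq_one_of_coords gae gap h)
  have htb0 : tb ≠ 0 := fun h => hgb1 (S'.eq_one_of_coords gbe gbp h)
  have hgaK : ga ∈ K := hga.1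
  have hgbK : gb ∈ K := ⟨gb0, by
    show gb.1.1 *ᵥ S.u = S.u
    rw [← hS'.2.2]
    exact (S'.pv_mem_fix gbe).2 gbp⟩
  have hMa : (S.toSL (Subgroup.inclusion inf_le_right ⟨ga, hgaK⟩)).1 = !![1, ta; 0, 1] := by
    show S.sliceMat ga = _
    rw [ea]
    ext i j
    fin_cases i <;> fin_cases j <;>
      simp [Frame.sliceMat, hta_def, C.tv_mulVec, C.form_add_left, C.form_smul_left, S.P.ee, S.P.ff, S.P.ef, S.P.fe]
  have hMb : (S.toSL (Subgroup.inclusion inf_le_right ⟨gb, hgbK⟩)).1 = !![1, 0; tb, 1] := by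
    show S.sliceMat gb = _
    rw [eb]
    ext i j
    fin_cases i <;> fin_cases j <;>
      simp [Frame.sliceMat, htb_def, hS'.1, C.tv_mulVec, C.form_add_left, C.form_smul_left, S.P.ee, S.P.ff, S.P.ef, S.P.fe]
  set A : φ.range := φ.rangeRestrict ⟨ga, hgaK⟩
  set B : φ.range := φ.rangeRestrict ⟨gb, hgbK⟩
  have hApow : ∃ i, A ^ p ^ i = 1 := by
    obtain ⟨i, hi⟩ := exists_pow_of_eich S p gae
    exact ⟨i, by rw [← map_pow, show (⟨ga, hgaK⟩ : K) ^ p ^ i = 1 from Subtype.ext hi, map_one]⟩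
  have hBpow : ∃ i, B ^ p ^ i = 1 := by
    obtain ⟨i, hi⟩ := exists_pow_of_eich S' p gbe
    exact ⟨i, by rw [← map_pow, show (⟨gb, hgbK⟩ : K) ^ p ^ i = 1 from Subtype.ext hi, map_one]⟩
  have hφ : ∀ x : K, φ x = QuotientGroup.mk' (Subgroup.center (Matrix.SpecialLinearGroup (Fin 2) F))
      (S.toSL (Subgroup.inclusion inf_le_right x)) := fun _ => rfl
  have hnotp : ¬ ((∃ i, (A * B) ^ p ^ i = 1) ∧ ∃ i, (A * A * B) ^ p ^ i = 1) := by
    rintro ⟨⟨i, hi⟩, ⟨j, hj⟩⟩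
    have h1 := trace_sq_of_pelement p (S.toSL (Subgroup.inclusion inf_le_right (⟨ga, hgaK⟩ * ⟨gb, hgbK⟩))) (k := i)
      (by
        have := congrArg Subtype.val hi
        rw [Subgroup.coe_pow, Subgroup.coe_mul, MonoidHom.coe_rangeRestrict, MonoidHom.coe_rangeRestrict,
          ← map_mul φ, hφ, Subgroup.coe_one] at this
        exact this)
    have h2 := trace_sq_of_pelement p
      (S.toSL (Subgroup.inclusion inf_le_right (⟨ga, hgaK⟩ * ⟨ga, hgaK⟩ * ⟨gb, hgbK⟩))) (k := j)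
      (by
        have := congrArg Subtype.val hj
        rw [Subgroup.coe_pow, Subgroup.coe_mul, Subgroup.coe_mul, MonoidHom.coe_rangeRestrict,
          MonoidHom.coe_rangeRestrict, ← map_mul φ, ← map_mul φ, hφ, Subgroup.coe_one] at this
        exact this)
    simp only [map_mul, Matrix.SpecialLinearGroup.coe_mul, hMa, hMb, Matrix.trace_fin_two, Matrix.mul_apply,
      Fin.sum_univ_two] at h1 h2
    norm_num at h1 h2
    have hz : ta * tb ≠ 0 := mul_ne_zero hta0 htb0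
    have e1 : ta * tb + 4 = 0 := mul_left_cancel₀ hz (show ta * tb * (ta * tb + 4) = ta * tb * 0 by
      linear_combination h1)
    have e2 : 4 * (ta * tb * (ta * tb + 2)) = 0 := by linear_combination h2
    by_cases h2z : (2 : F) = 0
    · exact hz (by linear_combination e1 - 2 * h2z)
    · have h4 : (4 : F) ≠ 0 := by
        rw [show (4 : F) = 2 * 2 by norm_num]
        exact mul_ne_zero h2z h2z
      have e3 := (mul_eq_zero.1 ((mul_eq_zero.1 e2).resolve_left h4)).resolve_left hz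
      exact h2z (by linear_combination e1 - e3)
  have hncomm : A * B ≠ B * A := fun hab => hnotp (by
    obtain ⟨i, hi⟩ := hApow
    obtain ⟨j, hj⟩ := hBpow
    have hc : Commute A B := hab
    refine ⟨⟨i + j, ?_⟩, ⟨i + j, ?_⟩⟩
    · rw [hc.mul_pow, pow_add, pow_mul, hi, one_pow, one_mul, mul_comm (p ^ i), pow_mul, hj, one_pow]
    · rw [((hc.mul_left hc)).mul_pow, (Commute.refl A).mul_pow, pow_add, pow_mul, hi, one_pow, one_mul, one_mul,
        mul_comm (p ^ i), pow_mul, hj, one_pow])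
  set N := Nat.card φ.range with hNdef
  have hKε : ε * N = (q + 1) * (w * e') := hε.symm.trans hKc
  have hwN : w ∣ N := by
    have h : w ∣ ε * N := hKε ▸ (dvd_mul_right w e').trans (dvd_mul_left _ _)
    refine Nat.Coprime.dvd_of_dvd_mul_left ?_ h
    rw [hb]
    refine Nat.Coprime.pow_left _ ?_
    rcases hεp with rfl | ⟨rfl, h2⟩
    · exact Nat.coprime_one_right p
    · exact (Nat.coprime_primes hp Nat.prime_two).2 h2
  have hpN : p ∣ N := (hb ▸ dvd_pow_self p hb0.ne').trans hwN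
  have hq1N : q + 1 ∣ ε * N := hKε ▸ dvd_mul_right _ _
  have hcw : ∀ d, p ^ d ∣ ε * N → d ≤ b := by
    intro d hd
    rw [hKε, ← mul_assoc] at hd
    have h := ((hcope.pow_left d).dvd_of_dvd_mul_right hd)
    have h' := (hcopq.pow_left d).dvd_of_dvd_mul_left h
    rw [hb] at h'
    exact (Nat.pow_dvd_pow_iff_le_right hp.one_lt).1 h'
  rcases Cfsg.Agent.S0799.result (F := F) (q := q ^ 2) hF p φ.range with
    ⟨k, hk, hh⟩ | ⟨P, K', hK', ⟨e⟩⟩ | ⟨⟨e⟩⟩ | ⟨⟨e⟩⟩ | ⟨⟨e⟩⟩ | ⟨K', _, _, m, hm, hiso⟩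
  · -- cyclic or dihedral
    have hpk : ¬ p ∣ k := by
      intro h
      have hpq2 : p ∣ q ^ 2 := Dvd.dvd.pow hpq (by norm_num)
      have hgd : ∀ x, Nat.gcd 2 (q ^ 2 - 1) ∣ x → x / Nat.gcd 2 (q ^ 2 - 1) ∣ x := fun x hx => Nat.div_dvd_of_dvd hx
      rcases hk with hk | hk
      · have h1 : k ∣ q ^ 2 + 1 := hk.trans (by
          refine Nat.div_dvd_of_dvd ?_
          have : Nat.gcd 2 (q ^ 2 - 1) ∣ q ^ 2 - 1 + 2 := Nat.dvd_add (Nat.gcd_dvd_right _ _) (Nat.gcd_dvd_left _ _)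
          rwa [show q ^ 2 - 1 + 2 = q ^ 2 + 1 by have := q_sq_pos hF; omega] at this)
        exact hp.not_dvd_one ((Nat.dvd_add_right hpq2).1 (h.trans h1))
      · have h1 : k ∣ q ^ 2 - 1 := hk.trans (hgd _ (Nat.gcd_dvd_right _ _))
        have h3 := Nat.dvd_sub hpq2 (h.trans h1)
        rw [show q ^ 2 - (q ^ 2 - 1) = 1 by have := q_sq_pos hF; omega] at h3
        exact hp.not_dvd_one h3
    rcases hh with ⟨hcyc, -⟩ | ⟨⟨e⟩⟩
    · letI := hcyc.commGroup
      exact absurd (mul_comm A B) hncomm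
    · have hN2 : N = 2 * k := by rw [hNdef, Nat.card_congr e.toEquiv, DihedralGroup.nat_card]
      obtain rfl := card_dihedral_case (Or.inr hN2) hp hpk hpN
      refine Or.inr (Or.inl ⟨rfl, ?_⟩)
      have h : 2 ^ b ∣ 2 * k := hN2 ▸ hb ▸ hwN
      have := Nat.le_of_dvd two_pos ((Nat.Coprime.pow_left b ((Nat.prime_two.coprime_iff_not_dvd).2 hpk)).dvd_of_dvd_mul_right h)
      omega
  · -- inside a Sylow normaliser
    exfalso
    refine hnotp ?_
    have hmem : ∀ X : φ.range, (∃ i, X ^ p ^ i = 1) → ((e X : K') : PSL2) ∈ (P : Subgroup PSL2) := by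
      rintro X ⟨i, hi⟩
      set x : PSL2 := ((e X : K') : PSL2) with hx
      have hxp : x ^ p ^ i = 1 := by rw [hx, ← Subgroup.coe_pow, ← map_pow, hi, map_one, Subgroup.coe_one]
      have hz : IsPGroup p (Subgroup.zpowers x) := by
        rintro ⟨w, l, rfl⟩
        refine ⟨i, Subtype.ext ?_⟩
        show (x ^ l) ^ p ^ i = 1
        rw [← zpow_natCast (x ^ l), ← _root_.zpow_mul, mul_comm, _root_.zpow_mul, zpow_natCast, hxp, _root_.one_zpow]
      have hs := IsPGroup.to_sup_of_normal_right' hz P.2 (Subgroup.zpowers_le.2 (hK' (e X).2))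
      rw [← P.is_maximal' hs le_sup_right]
      exact Subgroup.mem_sup_left (Subgroup.mem_zpowers x)
    have hback : ∀ X : φ.range, ((e X : K') : PSL2) ∈ (P : Subgroup PSL2) → ∃ i, X ^ p ^ i = 1 := by
      intro X hX
      obtain ⟨i, hi⟩ := P.2 ⟨_, hX⟩
      refine ⟨i, e.injective (Subtype.ext ?_)⟩
      rw [map_pow, map_one, Subgroup.coe_pow, Subgroup.coe_one]
      exact congrArg Subtype.val hi
    refine ⟨hback _ ?_, hback _ ?_⟩
    · rw [map_mul, Subgroup.coe_mul]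
      exact mul_mem (hmem A hApow) (hmem B hBpow)
    · rw [map_mul, map_mul, Subgroup.coe_mul, Subgroup.coe_mul]
      exact mul_mem (mul_mem (hmem A hApow) (hmem A hApow)) (hmem B hBpow)
  iterate 3
    · -- the exceptional groups
      have hN : N = 12 ∨ N = 24 ∨ N = 60 := by
        rw [hNdef, Nat.card_congr e.toEquiv]
        first
          | (rw [nat_card_alternatingGroup, Nat.card_eq_fintype_card, Fintype.card_fin]; decide)
          | (rw [Nat.card_perm, Nat.card_eq_fintype_card, Fintype.card_fin]; decide)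
      exact alt_arith hp hqp hq h5 hb hb0 hwq hεp hN hwN hq1N
  · -- a subfield
    obtain ⟨pK, hpK⟩ := CharP.exists K'
    obtain ⟨a, hpKp, hra⟩ := FiniteField.card K' pK
    set r := Fintype.card K' with hr
    have hppK : pK = p := by
      have hm0 : m ≠ 0 := fun h => by
        rw [h, pow_zero] at hm
        have : 2 ^ 2 ≤ q ^ 2 := Nat.pow_le_pow_left (by omega) 2
        omega
      have h : pK ∣ q ^ 2 := hm ▸ Dvd.dvd.pow (hra ▸ dvd_pow_self pK a.2.ne') hm0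
      rw [hqp, ← pow_mul] at h
      exact (Nat.prime_dvd_prime_iff_eq hpKp hp).1 (hpKp.dvd_of_dvd_pow h)
    subst hppK
    have hr1 : 1 < r := Fintype.one_lt_card
    have hNr : r ∣ N ∧ ε * N ∣ (if pK = 2 then 1 else 2) * (r * ((r - 1) * (r + 1))) := by
      have hεd : ε ∣ (if pK = 2 then 1 else 2) := by
        rcases hεp with rfl | ⟨rfl, h⟩
        · exact one_dvd _
        · rw [if_neg h]
      rcases hiso with ⟨⟨e⟩⟩ | ⟨⟨e⟩⟩
      · have h := card_psl2 (F := K')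
        rw [← Nat.card_congr e.toEquiv, ← hNdef, ← hr] at h
        refine ⟨?_, mul_dvd_mul hεd (h ▸ dvd_mul_left _ _)⟩
        refine Nat.Coprime.dvd_of_dvd_mul_left ?_ (Dvd.intro _ h.symm)
        refine Nat.Coprime.coprime_dvd_right (Nat.gcd_dvd_right _ _) ?_
        rw [Nat.coprime_comm]
        exact (Nat.coprime_self_sub_left (show 1 ≤ r by omega)).2 (Nat.coprime_one_left r) |>.symm.symm
      · have h := (card_pgl_eq (F := K') 2).trans card_sl2
        rw [← Nat.card_congr e.toEquiv, ← hNdef, ← hr] at h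
        exact ⟨h ▸ dvd_mul_right _ _, mul_dvd_mul hεd h.dvd⟩
    have hab : (a : ℕ) ≤ b := hcw a (dvd_mul_of_dvd_right (hra ▸ hNr.1) ε)
    have hba : b ≤ a := by
      have hwr : pK ^ b ∣ (if pK = 2 then 1 else 2) * (r * ((r - 1) * (r + 1))) :=
        (hb ▸ dvd_mul_of_dvd_right hwN ε).trans hNr.2
      have hco : Nat.Coprime pK ((r - 1) * (r + 1)) := by
        have hpr : pK ∣ r := hra ▸ dvd_pow_self pK a.2.ne'
        refine hp.coprime_iff_not_dvd.2 fun h => ?_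
        rcases hp.dvd_mul.1 h with h | h
        · exact hp.not_dvd_one (by simpa [Nat.sub_sub_self (show 1 ≤ r by omega)] using Nat.dvd_sub hpr h)
        · exact hp.not_dvd_one ((Nat.dvd_add_right hpr).1 h)
      have hco2 : Nat.Coprime pK (if pK = 2 then 1 else 2) := by
        split_ifs with h
        · exact Nat.coprime_one_right pK
        · exact (Nat.coprime_primes hp Nat.prime_two).2 h
      have h1 := (hco2.pow_left b).dvd_of_dvd_mul_left hwr
      have h2 := (hco.pow_left b).dvd_of_dvd_mul_right h1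
      rw [hra] at h2
      exact (Nat.pow_dvd_pow_iff_le_right hp.one_lt).1 h2
    have haf : (a : ℕ) ≤ f := by
      rw [hb, hqp] at hwq
      have := (Nat.pow_le_pow_iff_right hp.one_lt).1 hwq
      omega
    have hq1 : q + 1 ∣ (if pK = 2 then 1 else 2) * ((r - 1) * (r + 1)) := by
      have h := hq1N.trans hNr.2
      rw [mul_left_comm] at h
      refine Nat.Coprime.dvd_of_dvd_mul_left ?_ h
      rw [hra]
      exact (Nat.Coprime.pow_left _ hcopq).symm
    have hfin := subfield_arith hp (c := if pK = 2 then 1 else 2) (a := a) (f := f) (by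
        split_ifs with h
        · exact Or.inl rfl
        · exact Or.inr ⟨rfl, h⟩) a.2 haf (by
      rw [← hqp, ← hra]
      convert hq1 using 2
      rw [sq_sub_one, mul_comm])
    left
    rw [hb, hqp]
    congr 1
    omega

end CfsgLib.PGroup.UnitThreeIndex
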