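import Cfsg.Agent.Lib.PGroup.UnitThreeIndex.Small

/-!
The minimal index of a proper subgroup of the three-dimensional projective special unitary groups.
-/

set_option autoImplicit false
set_option linter.unusedSectionVars false

namespace CfsgLib.PGroup.UnitThreeIndex

open scoped Matrix
open Matrix CfsgLib.SU CfsgLib.Classical

variable {F : Type*} [Field F] [Fintype F] {q : ℕ} {C : UCtx F q}

set_option quotPrecheck false

local notation "V3" => (Fin 3 → F)
local notation "G3" => ↥(Cfsg.SU 3 F q)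

variable (H : Subgroup ↥(Cfsg.SU 3 F q))

theorem exists_factor {N x y : ℕ} (hodd : Odd N) (h : y ∣ N * x) (hy : ∃ i, y = 2 ^ i) : y ∣ x := by
  obtain ⟨i, rfl⟩ := hy
  exact (Nat.Coprime.pow_left i ((Nat.prime_two.coprime_iff_not_dvd).2 hodd.not_two_dvd_nat)).dvd_of_dvd_mul_left h

include C in
/-- The cofactor of the normaliser of a subgroup of large prime order. -/
theorem singer' (hF : Fintype.card F = q ^ 2) (p : ℕ) [Fact p.Prime] [CharP F p] {r X : ℕ} [Fact r.Prime]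
    (hc : Nat.card H = r * X) (hrX : ¬ r ∣ X) (hrodd : Odd r) (h1 : ¬ r ∣ q ^ 3 * (q ^ 2 - 1))
    (h2 : ¬ r ∣ q ^ 2 * ((q ^ 2 - 1) * (q ^ 2 + 1))) :
    ∃ R : Sylow r H, ∃ N m : ℕ, Nat.card ↥(Subgroup.normalizer (R : Set H)) = r * N ∧ Nat.card R = r ∧
      m % r = 1 ∧ Odd N ∧ X = N * m ∧ (¬ p ∣ r - 1 → ¬ p ∣ r * N) := by
  have hr0 := (Fact.out : r.Prime).pos
  obtain ⟨R, M, m, hM, hHm, hm, ⟨N, rfl⟩, hMo, hR, hp⟩ := singer (C := C) H hF p (r := r) (hc ▸ dvd_mul_right r X)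
    (by rw [hc, sq]; exact fun h => hrX (Nat.dvd_of_mul_dvd_mul_left hr0 h)) hrodd h1 h2
  refine ⟨R, N, m, hM.symm, hR, hm, (Nat.odd_mul.1 hMo).2, ?_, hp⟩
  rw [hc, mul_assoc] at hHm
  exact Nat.eq_of_mul_eq_mul_left hr0 hHm

include C in
theorem three_impossible (hF : Fintype.card F = q ^ 2) (hq : q = 3) (p : ℕ) [Fact p.Prime] [CharP F p]
    (hc : Nat.card H = 224) : False := by
  haveI : Fact (Nat.Prime 7) := ⟨by norm_num⟩
  obtain ⟨R, N, m, -, -, hm, hN, hX, -⟩ := singer' (C := C) H hF p (r := 7) (X := 32) (by omega) (by norm_num)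
    (by decide) (by rw [hq]; norm_num) (by rw [hq]; norm_num)
  obtain ⟨c, rfl⟩ := exists_factor hN (x := m) (y := 32) (Dvd.intro 1 (by omega)) ⟨5, rfl⟩
  have : N * c = 1 := by rw [mul_left_comm] at hX; omega
  rw [Nat.eq_one_of_mul_eq_one_left this] at hm
  omega

theorem divisor_eight : ∀ c < 6, (8 * 3 ^ c) % 19 ≠ 1 := by decide

include C in
theorem eight_impossible (hF : Fintype.card F = q ^ 2) (hq : q = 8) (p : ℕ) [Fact p.Prime] [CharP F p]
    (hc : Nat.card H = 513 * 72) : False := by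
  haveI : Fact (Nat.Prime 19) := ⟨by norm_num⟩
  obtain ⟨R, N, m, -, -, hm, hN, hX, -⟩ := singer' (C := C) H hF p (r := 19) (X := 8 * 243)
    (by rw [hc]) (by norm_num) (by decide) (by rw [hq]; norm_num) (by rw [hq]; norm_num)
  obtain ⟨c, rfl⟩ := exists_factor hN (y := 8) (hX ▸ dvd_mul_right 8 243) ⟨3, rfl⟩
  have : c ∣ 3 ^ 5 := ⟨N, by rw [mul_left_comm] at hX; have := Nat.eq_of_mul_eq_mul_left (by norm_num) hX; rw [mul_comm c]; omega⟩
  obtain ⟨i, hi, rfl⟩ := (Nat.dvd_prime_pow Nat.prime_three).1 this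
  exact divisor_eight i (by omega) hm

theorem divisor_seventeen : ∀ a < 5, ∀ b < 2, (272 * (3 ^ a * 7 ^ b)) % 13 ≠ 1 := by decide

include C in
theorem seventeen_impossible (hF : Fintype.card F = q ^ 2) (hq : q = 17) (p : ℕ) [Fact p.Prime] [CharP F p]
    (hp : p = 17) (hc : Nat.card H = 4914 * 408) : False := by
  haveI : Fact (Nat.Prime 13) := ⟨by norm_num⟩
  obtain ⟨R, N, m, -, -, hm, hN, hX, hpN⟩ := singer' (C := C) H hF p (r := 13) (X := 272 * 567)
    (by rw [hc]) (by norm_num) (by decide) (by rw [hq]; norm_num) (by rw [hq]; norm_num)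
  have h16 : 16 ∣ m := exists_factor hN (hX ▸ Dvd.intro (17 * 567) (by norm_num)) ⟨4, rfl⟩
  have h17 : 17 ∣ m := by
    have h : 17 ∣ N * m := hX ▸ Dvd.intro (16 * 567) (by norm_num)
    refine ((by norm_num : Nat.Prime 17).dvd_mul.1 h).resolve_left fun h' => ?_
    subst hp
    exact hpN (by norm_num) (dvd_mul_of_dvd_right h' 13)
  obtain ⟨c, rfl⟩ : 272 ∣ m := Nat.Coprime.mul_dvd_of_dvd_of_dvd (by norm_num : Nat.Coprime 16 17) h16 h17
  have : c ∣ 3 ^ 4 * 7 := ⟨N, by rw [mul_left_comm] at hX; have := Nat.eq_of_mul_eq_mul_left (by norm_num) hX; rw [mul_comm c]; omega⟩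
  obtain ⟨x, y, hx, hy, rfl⟩ := Nat.dvd_mul.1 this
  obtain ⟨a, ha, rfl⟩ := (Nat.dvd_prime_pow Nat.prime_three).1 hx
  obtain ⟨b, hb, rfl⟩ := (Nat.dvd_prime_pow (by norm_num : Nat.Prime 7)).1 (show y ∣ 7 ^ 1 by rw [pow_one]; exact hy)
  exact divisor_seventeen a (by omega) b (by omega) hm

theorem divisor_twentynine : ∀ a < 4, ∀ b < 2, ∀ c < 2, (116 * (3 ^ a * 5 ^ b * 7 ^ c)) % 271 ≠ 1 := by decide

include C in
theorem twentynine_impossible (hF : Fintype.card F = q ^ 2) (hq : q = 29) (p : ℕ) [Fact p.Prime] [CharP F p]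
    (hp : p = 29) (hc : Nat.card H = 24390 * 1218) : False := by
  haveI : Fact (Nat.Prime 271) := ⟨by norm_num⟩
  obtain ⟨R, N, m, -, -, hm, hN, hX, hpN⟩ := singer' (C := C) H hF p (r := 271) (X := 116 * 945)
    (by rw [hc]) (by norm_num) (by decide) (by rw [hq]; norm_num) (by rw [hq]; norm_num)
  have h4 : 4 ∣ m := exists_factor hN (hX ▸ Dvd.intro (29 * 945) (by norm_num)) ⟨2, rfl⟩
  have h29 : 29 ∣ m := by
    have h : 29 ∣ N * m := hX ▸ Dvd.intro (4 * 945) (by norm_num)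
    refine ((by norm_num : Nat.Prime 29).dvd_mul.1 h).resolve_left fun h' => ?_
    subst hp
    exact hpN (by norm_num) (dvd_mul_of_dvd_right h' 271)
  obtain ⟨c, rfl⟩ : 116 ∣ m := Nat.Coprime.mul_dvd_of_dvd_of_dvd (by norm_num : Nat.Coprime 4 29) h4 h29
  have : c ∣ 3 ^ 3 * 5 ^ 1 * 7 ^ 1 :=
    ⟨N, by rw [mul_left_comm] at hX; have := Nat.eq_of_mul_eq_mul_left (by norm_num) hX; rw [mul_comm c]; omega⟩
  obtain ⟨xy, z, hxy, hz, rfl⟩ := Nat.dvd_mul.1 this
  obtain ⟨x, y, hx, hy, rfl⟩ := Nat.dvd_mul.1 hxy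
  obtain ⟨a, ha, rfl⟩ := (Nat.dvd_prime_pow Nat.prime_three).1 hx
  obtain ⟨b, hb, rfl⟩ := (Nat.dvd_prime_pow Nat.prime_five).1 hy
  obtain ⟨d, hd, rfl⟩ := (Nat.dvd_prime_pow (by norm_num : Nat.Prime 7)).1 hz
  exact divisor_twentynine a (by omega) b (by omega) d (by omega) hm

theorem divisor_nine : ∀ i < 4, ∀ j < 3, ∀ k < 7, (2 ^ i * 5 ^ j * 3 ^ k) % 73 = 1 → i = 0 := by decide

include C in
theorem nine_impossible (hF : Fintype.card F = q ^ 2) (hq : q = 9) (p : ℕ) [Fact p.Prime] [CharP F p]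
    {a t : ℕ} (ha : a ≤ 6) (ht : t ∣ 20) (hc : Nat.card H = 730 * (3 ^ a * t)) : False := by
  haveI : Fact (Nat.Prime 73) := ⟨by norm_num⟩
  have hX : 10 * (3 ^ a * t) ∣ 2 ^ 3 * 5 ^ 2 * 3 ^ 6 := by
    rw [show 2 ^ 3 * 5 ^ 2 * 3 ^ 6 = 10 * (3 ^ 6 * 20) by norm_num]
    exact mul_dvd_mul_left 10 (mul_dvd_mul (pow_dvd_pow 3 ha) ht)
  obtain ⟨R, N, m, -, -, hm, hN, hXm, -⟩ := singer' (C := C) H hF p (r := 73) (X := 10 * (3 ^ a * t))
    (by rw [hc]; ring) (fun h => absurd (h.trans hX) (by norm_num)) (by decide) (by rw [hq]; norm_num) (by rw [hq]; norm_num)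
  have h2 : 2 ∣ m := exists_factor hN (hXm ▸ Dvd.dvd.mul_right (by norm_num) _) ⟨1, rfl⟩
  have hmd : m ∣ 2 ^ 3 * 5 ^ 2 * 3 ^ 6 := (Dvd.intro_left N hXm.symm).trans hX
  obtain ⟨xy, z, hxy, hz, rfl⟩ := Nat.dvd_mul.1 hmd
  obtain ⟨x, y, hx, hy, rfl⟩ := Nat.dvd_mul.1 hxy
  obtain ⟨i, hi, rfl⟩ := (Nat.dvd_prime_pow Nat.prime_two).1 hx
  obtain ⟨j, hj, rfl⟩ := (Nat.dvd_prime_pow Nat.prime_five).1 hy
  obtain ⟨k, hk, rfl⟩ := (Nat.dvd_prime_pow Nat.prime_three).1 hz
  obtain rfl := divisor_nine i (by omega) j (by omega) k (by omega) hm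
  rw [pow_zero, one_mul] at h2
  rcases Nat.prime_two.dvd_mul.1 h2 with h | h
  · exact absurd (Nat.prime_two.dvd_of_dvd_pow h) (by norm_num)
  · exact absurd (Nat.prime_two.dvd_of_dvd_pow h) (by norm_num)

theorem divisor_eleven : ∀ a < 4, ∀ b < 2, ∀ c < 2, (8 * (3 ^ a * 5 ^ b * 11 ^ c)) % 37 = 1 →
    3 ^ a * 5 ^ b * 11 ^ c = 495 := by decide

include C in
theorem eleven_impossible (hF : Fintype.card F = q ^ 2) (hq : q = 11) (p : ℕ) [Fact p.Prime] [CharP F p]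
    (hp : p = 11) (hV : ∀ S : Frame C, ∃ g ∈ H, g ∈ S.P.eichGroup ∧ g ≠ 1)
    (hZ : Subgroup.center G3 ≤ H) (hc : Nat.card H = 1332 * 330) : False := by
  haveI : Fact (Nat.Prime 37) := ⟨by norm_num⟩
  obtain ⟨R, N, m, hNR, hRc, hm, hN, hX, -⟩ := singer' (C := C) H hF p (r := 37) (X := 11880)
    (by omega) (by norm_num) (by decide) (by rw [hq]; norm_num) (by rw [hq]; norm_num)
  obtain ⟨c, rfl⟩ := exists_factor hN (x := m) (y := 8) (Dvd.intro 1485 (by omega)) ⟨3, rfl⟩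
  have hc3 : N * c = 3 ^ 3 * 5 ^ 1 * 11 ^ 1 := by rw [mul_left_comm] at hX; norm_num; omega
  obtain ⟨xy, z, hxy, hz, rfl⟩ := Nat.dvd_mul.1 (Dvd.intro_left N hc3)
  obtain ⟨x, y, hx, hy, rfl⟩ := Nat.dvd_mul.1 hxy
  obtain ⟨a, ha, rfl⟩ := (Nat.dvd_prime_pow Nat.prime_three).1 hx
  obtain ⟨b, hb, rfl⟩ := (Nat.dvd_prime_pow Nat.prime_five).1 hy
  obtain ⟨d, hd, rfl⟩ := (Nat.dvd_prime_pow (by norm_num : Nat.Prime 11)).1 hz
  rw [divisor_eleven a (by omega) b (by omega) d (by omega) hm] at hX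
  have hN3 : N = 3 := by omega
  rw [hN3] at hNR
  -- the centraliser is the normaliser
  have hcent : Nat.card ↥((Subgroup.center G3).subgroupOf H) = 3 := by
    rw [Nat.card_congr (Subgroup.subgroupOfEquivOfLe hZ).toEquiv, C.card_center_su hF (le_refl 3), hq]
    norm_num
  have hle : Subgroup.normalizer (R : Set H) ≤ Subgroup.centralizer (R : Set H) := by
    have h1 : Subgroup.centralizer (R : Set H) ≤ Subgroup.normalizer (R : Set H) :=
      Subgroup.centralizer_le_normalizer (R : Set H)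
    have hR : (R : Subgroup H) ≤ Subgroup.centralizer (R : Set H) := by
      haveI : IsCyclic (R : Subgroup H) := isCyclic_of_prime_card hRc
      intro x hx
      rw [Subgroup.mem_centralizer_iff]
      intro y hy
      have := (IsCyclic.commGroup (α := (R : Subgroup H))).mul_comm ⟨y, hy⟩ ⟨x, hx⟩
      exact congrArg Subtype.val this
    have hZc : (Subgroup.center G3).subgroupOf H ≤ Subgroup.centralizer (R : Set H) := fun x hx =>
      Subgroup.mem_centralizer_iff.2 fun y _ => Subtype.ext (Subgroup.mem_center_iff.1 hx (y : G3))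
    have h37 : 37 ∣ Nat.card ↥(Subgroup.centralizer (R : Set H)) := hRc.symm.dvd.trans (Subgroup.card_dvd_of_le hR)
    have h3 : 3 ∣ Nat.card ↥(Subgroup.centralizer (R : Set H)) := hcent.symm.dvd.trans (Subgroup.card_dvd_of_le hZc)
    have h111 := Nat.le_of_dvd Nat.card_pos (Nat.Coprime.mul_dvd_of_dvd_of_dvd (by norm_num : Nat.Coprime 37 3) h37 h3)
    exact (Subgroup.eq_of_le_of_card_ge h1 (hNR.le.trans h111)).ge
  have hcompl := MonoidHom.ker_transferSylow_isComplement' R hle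
  set K := (MonoidHom.transferSylow R hle).ker
  have hK : Nat.card K * 37 = 1332 * 330 := by rw [← hc, ← hRc, hcompl.card_mul]
  have hKV : ∀ S : Frame C, ∃ g ∈ K.map H.subtype, g ∈ S.P.eichGroup ∧ g ≠ 1 := by
    intro S
    obtain ⟨g, hg, hge, hg1⟩ := hV S
    refine ⟨g, ⟨⟨g, hg⟩, ?_, rfl⟩, hge, hg1⟩
    obtain ⟨i, hi⟩ := exists_pow_of_eich S p hge
    rw [SetLike.mem_coe, MonoidHom.mem_ker]
    set y := MonoidHom.transferSylow R hle ⟨g, hg⟩
    have h11 : y ^ p ^ i = 1 := by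
      rw [← map_pow, show (⟨g, hg⟩ : H) ^ p ^ i = 1 from Subtype.ext hi, map_one]
    have hd : orderOf y ∣ Nat.gcd 37 (p ^ i) :=
      Nat.dvd_gcd ((orderOf_dvd_natCard y).trans hRc.dvd) (orderOf_dvd_of_pow_eq_one h11)
    rw [(Nat.Coprime.pow_right i (by rw [hp]; norm_num : Nat.Coprime 37 p)), Nat.dvd_one] at hd
    exact orderOf_eq_one_iff.1 hd
  obtain ⟨P₀⟩ := C.exists_pair (n := 3) (by norm_num)
  obtain ⟨S₀, -⟩ := exists_frame P₀
  have h := card_of_transitive (K.map H.subtype) (pt S₀.P) (fun y => trans_of_eich (C := C) (K.map H.subtype) p hKV (pt S₀.P) y)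
  rw [card_pts hF, Subgroup.card_subtype, show q ^ 3 + 1 = 1332 by rw [hq]; norm_num] at h
  have hd : 37 ∣ Nat.card K := by
    rw [h]
    exact Dvd.dvd.mul_right (by norm_num) _
  obtain ⟨e, he⟩ := hd
  omega

include C in
/-- A large subgroup is everything. -/
theorem eq_top (hF : Fintype.card F = q ^ 2) (hq : 3 ≤ q) (h5 : q ≠ 5) (hH : Nat.card G3 ≤ Nat.card H * q ^ 3)
    (hZ : Subgroup.center G3 ≤ H) : H = ⊤ := by
  classical
  obtain ⟨p, f, hp, hf, hqp, hch⟩ := PGroup.UnitAll.exists_prime_data hF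
  haveI := Fact.mk hp
  haveI := hch
  have huniq : ∀ {r : ℕ}, r.Prime → q = r → p = r := fun {r} hr e => by
    have h : p ∣ r := e ▸ hqp ▸ dvd_pow_self p hf.ne'
    exact (Nat.prime_dvd_prime_iff_eq hp hr).1 h
  rcases dichotomy (C := C) H hF hH with ⟨hnone, hcard, ht, htr⟩ | hV
  · exfalso
    have h3 := caseA (C := C) H hF hq h5 hnone ht htr
    exact three_impossible (C := C) H hF h3 p (by rw [hcard, h3]; norm_num)
  have htr := trans_of_eich H p hV
  by_cases hW : ∃ S : Frame C, ∃ g ∈ S.wgrp H, g ≠ 1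
  swap
  · exfalso
    push Not at hW
    rcases caseB1 (C := C) H hF hq h5 hH hV (fun S g hg hge hπ => hW S g ((S.mem_wgrp H).2 ⟨hg, hge, hπ⟩)) with
      ⟨e, hc⟩ | ⟨e, hc⟩ | ⟨e, hc⟩
    · exact eleven_impossible (C := C) H hF e p (huniq (by norm_num) e) hV hZ hc
    · exact seventeen_impossible (C := C) H hF e p (huniq (by norm_num) e) hc
    · exact twentynine_impossible (C := C) H hF e p (huniq (by norm_num) e) hc
  obtain ⟨S₁, hW₁⟩ := hW
  have hWall := tv_everywhere H htr S₁ hW₁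
  obtain ⟨P₀⟩ := C.exists_pair (n := 3) (by norm_num)
  obtain ⟨S, -⟩ := exists_frame P₀
  have hcard : Nat.card H = (q ^ 3 + 1) * Nat.card ↥(S.bgrp H) := by
    rw [card_of_transitive H (pt S.P) (htr _), card_pts hF]
    rfl
  rcases chord_group_cases H hF hq h5 hf hqp hWall S with hw | ⟨hp2, hw⟩ | ⟨hq9, hw⟩
  · exact top_of_full (C := C) H hF hq htr S ((S.card_wgrp_le H hF).2 hw)
  · exfalso
    subst hp2
    obtain ⟨e, hb⟩ := even_case H S hF hq hH hqp hw
    exact eight_impossible (C := C) H hF e 2 (by rw [hcard, hb, e]; norm_num)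
  · exfalso
    obtain rfl : p = 3 := by
      have h : p ∣ 3 ^ 2 := by rw [show (3 : ℕ) ^ 2 = q by rw [hq9]; norm_num, hqp]; exact dvd_pow_self p hf.ne'
      exact (Nat.prime_dvd_prime_iff_eq hp Nat.prime_three).1 (hp.dvd_of_dvd_pow h)
    obtain ⟨a, t, ha, ht, hb⟩ := nine_case H S hF hq9 hw
    exact nine_impossible (C := C) H hF hq9 3 ha ht (by rw [hcard, hb, hq9]; norm_num)

include C in
/-- The minimal index in dimension three. -/
theorem psu_three_index (hF : Fintype.card F = q ^ 2) (hq : 3 ≤ q) (h5 : q ≠ 5) :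
    (∀ H : Subgroup (Cfsg.PSU 3 F q), H ≠ ⊤ → q ^ 3 + 1 ≤ H.index) ∧
      ∃ H : Subgroup (Cfsg.PSU 3 F q), H.index = q ^ 3 + 1 := by
  refine ⟨fun H hH => ?_, ?_⟩
  · by_contra hlt
    rw [not_le, Nat.lt_succ_iff] at hlt
    refine hH ?_
    have hsurj : Function.Surjective (pr (n := 3) (F := F) (q := q)) := QuotientGroup.mk'_surjective _
    have htop := eq_top (C := C) (H.comap pr) hF hq h5 (by
      rw [← Subgroup.card_mul_index (H.comap pr), Subgroup.index_comap_of_surjective H hsurj]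
      exact Nat.mul_le_mul_left _ hlt) (fun z hz => by
      rw [Subgroup.mem_comap, show pr z = 1 from (QuotientGroup.eq_one_iff z).2 hz]
      exact one_mem H)
    rw [← Subgroup.map_comap_eq_self_of_surjective hsurj H, htop, Subgroup.map_top_of_surjective _ hsurj]
  · obtain ⟨P⟩ := C.exists_pair (n := 3) (by norm_num)
    haveI : MulAction.IsPretransitive (Cfsg.PSU 3 F q) (UPoint C 3) :=
      (uPoint_preprimitive C (le_refl 3)).toIsPretransitive
    exact ⟨MulAction.stabilizer (Cfsg.PSU 3 F q) (pt P),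
      (MulAction.index_stabilizer_of_transitive _ _).trans (card_pts hF)⟩

end CfsgLib.PGroup.UnitThreeIndex
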