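import Cfsg.Agent.Lib.PGroup.UnitThreeIndex.Basic

/-!
Orbits on isotropic points of a large subgroup of a three-dimensional unitary group.
-/

set_option autoImplicit false
set_option linter.unusedSectionVars false

namespace CfsgLib.PGroup.UnitThreeIndex

open scoped Matrix
open Matrix CfsgLib.SU CfsgLib.Classical

variable {F : Type*} [Field F] [Fintype F] {q : ℕ} {C : UCtx F q}

set_option quotPrecheck false

local notation "V3" => (Fin 3 → F)
local notation "G3" => ↥(Cfsg.SU 3 F q)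

instance finite_upoint : Finite (UPoint C 3) := by
  haveI : Finite (Cfsg.PSU 3 F q) := Quotient.finite _
  exact Subtype.finite

theorem q_sq_pos (hF : Fintype.card F = q ^ 2) : 0 < q ^ 2 - 1 := by
  have : 2 ^ 2 ≤ q ^ 2 := Nat.pow_le_pow_left (PGroup.UnitAll.q_ge_two hF) 2
  omega

theorem card_pts (hF : Fintype.card F = q ^ 2) : Nat.card (UPoint C 3) = q ^ 3 + 1 := by
  refine Nat.eq_of_mul_eq_mul_right (q_sq_pos hF) ?_
  rw [PGroup.UnitIndex.card_upoint C hF le_rfl, PGroup.UnitAll.isoCount_odd C hF (by norm_num) (by decide)]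

theorem pts_pretransitive : MulAction.IsPretransitive G3 (UPoint C 3) := by
  haveI : MulAction.IsPretransitive (Cfsg.PSU 3 F q) (UPoint C 3) :=
    (uPoint_preprimitive C (le_refl 3)).toIsPretransitive
  refine ⟨fun a b => ?_⟩
  obtain ⟨g, hg⟩ := MulAction.exists_smul_eq (Cfsg.PSU 3 F q) a b
  obtain ⟨g', rfl⟩ := QuotientGroup.mk'_surjective _ g
  exact ⟨g', hg⟩

theorem card_su3 (C : UCtx F q) (hF : Fintype.card F = q ^ 2) :
    Nat.card G3 = q ^ 3 * ((q ^ 2 - 1) * (q ^ 3 + 1)) := by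
  have h := CfsgLib.Classical.card_su_mul C hF (n := 3) (by norm_num)
  rw [CfsgLib.Classical.card_gu_formula C hF 3] at h
  simp only [Finset.prod_range_succ, Finset.prod_range_zero, one_mul, Nat.zero_add, pow_one,
    show (3 * (3 - 1) / 2 : ℕ) = 3 from rfl, if_pos (Even.zero (α := ℕ)), if_neg Nat.not_even_one,
    if_pos even_two] at h
  refine Nat.eq_of_mul_eq_mul_left (show 0 < q + 1 by omega) (h.trans ?_)
  rw [show (q : ℕ) ^ (1 + 1) = q ^ 2 from rfl, show (q : ℕ) ^ (2 + 1) = q ^ 3 from rfl]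
  ring

theorem index_stab (hF : Fintype.card F = q ^ 2) (x : UPoint C 3) :
    (MulAction.stabilizer G3 x).index = q ^ 3 + 1 := by
  haveI := pts_pretransitive (F := F) (q := q) (C := C)
  rw [MulAction.index_stabilizer_of_transitive, card_pts hF]

/-- Transitivity from elements of prime power order with a single fixed point. -/
theorem gleason {G Ω : Type*} [Group G] [Finite G] [MulAction G Ω] [Finite Ω] (K : Subgroup G) (O : Set Ω)
    (p : ℕ) [Fact p.Prime] (hO : ∀ k ∈ K, ∀ x ∈ O, k • x ∈ O)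
    (h : ∀ x ∈ O, ∃ g ∈ K, (∃ i, g ^ p ^ i = 1) ∧ g • x = x ∧ ∀ y ∈ O, g • y = y → y = x) :
    ∀ x ∈ O, ∀ y ∈ O, ∃ k ∈ K, k • x = y := by
  intro x hx y hy
  by_contra hne
  push Not at hne
  have cnt : ∀ z ∈ O, ∀ g ∈ K, (∃ i, g ^ p ^ i = 1) →
      Nat.card (MulAction.orbit K x) ≡
        Set.ncard {w ∈ MulAction.orbit K x | g • w = w} [MOD p] := by
    intro z _ g hg hgp
    let Z := Subgroup.zpowers (⟨g, hg⟩ : K)
    have hp : IsPGroup p Z := by
      obtain ⟨i, hi⟩ := hgp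
      rintro ⟨w, k, rfl⟩
      refine ⟨i, Subtype.ext (Subtype.ext ?_)⟩
      show (g ^ k) ^ p ^ i = 1
      rw [← zpow_natCast (g ^ k), ← _root_.zpow_mul, mul_comm, _root_.zpow_mul, zpow_natCast, hi, _root_.one_zpow]
    have hmod := hp.card_modEq_card_fixedPoints (MulAction.orbit K x)
    convert hmod using 1
    rw [← Nat.card_coe_set_eq]
    refine Nat.card_congr ⟨fun w => ⟨⟨w.1, w.2.1⟩, fun ⟨k, hk⟩ => ?_⟩, fun w => ⟨w.1.1, w.1.2, ?_⟩,
      fun w => rfl, fun w => rfl⟩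
    · have hle : Z ≤ MulAction.stabilizer K (⟨w.1, w.2.1⟩ : MulAction.orbit K x) := by
        rw [Subgroup.zpowers_le]
        exact Subtype.ext w.2.2
      exact hle hk
    · exact congrArg Subtype.val (w.2 ⟨⟨g, hg⟩, Subgroup.mem_zpowers _⟩)
  have hsub : ∀ w ∈ MulAction.orbit K x, w ∈ O := by
    rintro w ⟨⟨k, hk⟩, rfl⟩
    exact hO k hk x hx
  obtain ⟨g, hgK, hgp, hgx, hgonly⟩ := h x hx
  obtain ⟨g', hg'K, hg'p, hg'y, hg'only⟩ := h y hy
  have h1 := cnt x hx g hgK hgp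
  have h2 := cnt y hy g' hg'K hg'p
  rw [show {w ∈ MulAction.orbit K x | g • w = w} = {x} from Set.ext fun w =>
    ⟨fun hw => hgonly w (hsub w hw.1) hw.2, fun hw => by
      rw [Set.mem_singleton_iff] at hw; subst hw; exact ⟨MulAction.mem_orbit_self _, hgx⟩⟩,
    Set.ncard_singleton] at h1
  rw [show {w ∈ MulAction.orbit K x | g' • w = w} = ∅ from Set.eq_empty_iff_forall_notMem.2 fun w hw => by
    obtain ⟨⟨k, hk⟩, rfl⟩ := hw.1
    exact hne k hk (hg'only _ (hsub _ hw.1) hw.2), Set.ncard_empty] at h2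
  have := (h2.symm.trans h1)
  have hp1 := (Fact.out : p.Prime).two_le
  rw [Nat.ModEq, Nat.zero_mod, Nat.mod_eq_of_lt (by omega)] at this
  exact zero_ne_one this

/-- An orbit covering the points. -/
theorem card_of_transitive {G Ω : Type*} [Group G] [Finite G] [MulAction G Ω] (K : Subgroup G) (x : Ω)
    (h : ∀ y, ∃ k ∈ K, k • x = y) :
    Nat.card K = Nat.card Ω * Nat.card ↥(K ⊓ MulAction.stabilizer G x) := by
  have h1 := Subgroup.card_eq_card_quotient_mul_card_subgroup (MulAction.stabilizer K x)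
  rw [← Nat.card_congr (MulAction.orbitEquivQuotientStabilizer K x)] at h1
  have h2 : MulAction.orbit K x = Set.univ := Set.eq_univ_of_forall fun y => by
    obtain ⟨k, hk, hk'⟩ := h y
    exact ⟨⟨k, hk⟩, hk'⟩
  rw [h2, Nat.card_congr (Equiv.Set.univ Ω)] at h1
  rw [h1]
  congr 1
  exact Nat.card_congr ⟨fun g => ⟨g.1.1, g.1.2, g.2⟩, fun g => ⟨⟨g.1, g.2.1⟩, g.2.2⟩, fun g => rfl, fun g => rfl⟩

namespace Frame

variable (S : Frame C) (H : Subgroup ↥(Cfsg.SU 3 F q))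

/-- The stabiliser of the point in a subgroup. -/
noncomputable def bgrp : Subgroup G3 := H ⊓ MulAction.stabilizer G3 (pt S.P)

theorem mem_bgrp {g : G3} : g ∈ S.bgrp H ↔ g ∈ H ∧ g • pt S.P = pt S.P := Iff.rfl

theorem eich_smul {g : G3} (hg : g ∈ S.P.eichGroup) : g • pt S.P = pt S.P := by
  rw [pt, smul_pt_eq_iff]
  exact ⟨1, by rw [one_smul]; exact S.eichGroup_iff.1 hg⟩

/-- The ratio as a homomorphism to the units. -/
noncomputable def ratHom : ↥(S.bgrp H) →* Fˣ where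
  toFun g := Units.mk0 (S.rat g.1) (S.rat_ne_zero g.2.2)
  map_one' := Units.ext S.rat_one
  map_mul' g h := Units.ext (S.rat_mul g.2.2 h.2.2)

theorem ratHom_val (g : ↥(S.bgrp H)) : ((S.ratHom H g : Fˣ) : F) = S.rat g.1 := rfl

/-- The number of ratios. -/
noncomputable def tval : ℕ := Nat.card (S.ratHom H).range

theorem card_bgrp : Nat.card ↥(S.bgrp H) = Nat.card ↥(H ⊓ S.P.eichGroup) * S.tval H := by
  rw [← Subgroup.card_mul_index (S.ratHom H).ker, Subgroup.index_ker, tval]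
  congr 1
  refine Nat.card_congr ⟨fun g => ⟨g.1.1, g.1.2.1, S.eichGroup_iff.2 ?_⟩,
    fun g => ⟨⟨g.1, g.2.1, S.eich_smul g.2.2⟩, Units.ext ?_⟩, fun g => rfl, fun g => rfl⟩
  · have h1 : S.rat g.1.1 = 1 := congrArg Units.val g.2
    rw [S.mem_stab_iff.1 g.1.2.2, h1, one_smul]
  · exact S.rat_eq ((S.eichGroup_iff.1 g.2.2).trans (one_smul F S.P.e).symm)

theorem tval_dvd (hF : Fintype.card F = q ^ 2) : S.tval H ∣ q ^ 2 - 1 := by
  rw [← hF, ← Nat.card_eq_fintype_card, ← Nat.card_units F]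
  exact Subgroup.card_subgroup_dvd_card _

theorem tval_pos : 0 < S.tval H := Nat.card_pos

theorem rat_pow_tval {g : G3} (hg : g ∈ S.bgrp H) : S.rat g ^ S.tval H = 1 := by
  have h : (S.ratHom H).rangeRestrict ⟨g, hg⟩ ^ S.tval H = 1 := pow_card_eq_one'
  exact congrArg (fun z : (S.ratHom H).range => ((z : Fˣ) : F)) h

theorem exists_rat_orderOf : ∃ g ∈ S.bgrp H, orderOf (S.rat g) = S.tval H := by
  obtain ⟨z, hz⟩ := IsCyclic.exists_ofOrder_eq_natCard (α := (S.ratHom H).range)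
  obtain ⟨g, hg⟩ := z.2
  refine ⟨g.1, g.2, ?_⟩
  rw [tval, ← hz, ← Subgroup.orderOf_coe, ← hg, ← orderOf_units]
  rfl

theorem exists_rat_of_pow {z : F} (hz : z ^ S.tval H = 1) : ∃ g ∈ S.bgrp H, S.rat g = z := by
  obtain ⟨g, hg, ho⟩ := S.exists_rat_orderOf H
  have hpr : IsPrimitiveRoot (S.rat g) (S.tval H) := ho ▸ IsPrimitiveRoot.orderOf _
  haveI : NeZero (S.tval H) := ⟨(S.tval_pos H).ne'⟩
  obtain ⟨i, -, hi⟩ := hpr.eq_pow_of_pow_eq_one hz
  refine ⟨g ^ i, pow_mem hg i, ?_⟩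
  rw [← hi]
  exact congrArg Units.val (map_pow (S.ratHom H) ⟨g, hg⟩ i)

theorem bgrp_ge (hF : Fintype.card F = q ^ 2) (hH : Nat.card G3 ≤ Nat.card H * q ^ 3) :
    q ^ 2 - 1 ≤ Nat.card ↥(S.bgrp H) ∧
      (Nat.card ↥(S.bgrp H) = q ^ 2 - 1 → Nat.card H = (q ^ 2 - 1) * (q ^ 3 + 1)) := by
  have h1 : (H ⊓ MulAction.stabilizer G3 (pt S.P)).index ≤ H.index * (q ^ 3 + 1) :=
    index_stab (C := C) hF (pt S.P) ▸ Subgroup.index_inf_le
  have h2 := Subgroup.card_mul_index (S.bgrp H)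
  have h3 := Subgroup.card_mul_index H
  have hc := card_su3 C hF
  rw [bgrp] at h2 ⊢
  have h4 : H.index ≤ q ^ 3 := by
    refine Nat.le_of_mul_le_mul_left ?_ (Nat.card_pos (α := H))
    rw [h3]; exact hH
  have h5 : q ^ 3 * ((q ^ 2 - 1) * (q ^ 3 + 1)) ≤
      Nat.card ↥(H ⊓ MulAction.stabilizer G3 (pt S.P)) * (H.index * (q ^ 3 + 1)) := by
    rw [← hc, ← h2]
    exact Nat.mul_le_mul_left _ h1
  have hq3 : 0 < q ^ 3 := pow_pos (Nat.pos_of_ne_zero C.q_ne_zero) 3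
  refine ⟨?_, fun h => ?_⟩
  · refine Nat.le_of_mul_le_mul_right ?_ (show 0 < q ^ 3 * (q ^ 3 + 1) by positivity)
    calc (q ^ 2 - 1) * (q ^ 3 * (q ^ 3 + 1)) = q ^ 3 * ((q ^ 2 - 1) * (q ^ 3 + 1)) := by ring
      _ ≤ _ := h5
      _ ≤ _ := Nat.mul_le_mul_left _ (Nat.mul_le_mul_right _ h4)
  · rw [h] at h5
    have h6 : H.index = q ^ 3 := le_antisymm h4 (Nat.le_of_mul_le_mul_right
      (b := H.index) (show q ^ 3 * ((q ^ 2 - 1) * (q ^ 3 + 1)) ≤ H.index * ((q ^ 2 - 1) * (q ^ 3 + 1)) by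
        calc _ ≤ _ := h5
          _ = _ := by ring) (Nat.mul_pos (q_sq_pos hF) (Nat.succ_pos _)))
    rw [h6, hc, mul_comm] at h3
    exact Nat.eq_of_mul_eq_mul_left hq3 h3

end Frame

/-- An element of prime power order fixing the point lies in the Eichler group. -/
theorem eich_of_pelement (S : Frame C) (p : ℕ) [Fact p.Prime] [CharP F p] {g : G3} (hg : g • pt S.P = pt S.P)
    {i : ℕ} (hi : g ^ p ^ i = 1) : g ∈ S.P.eichGroup := by
  rw [S.eichGroup_iff, S.mem_stab_iff.1 hg]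
  have h : S.rat g ^ p ^ i = 1 := by
    have h1 := map_pow (S.ratHom ⊤) ⟨g, Subgroup.mem_top g, hg⟩ (p ^ i)
    have h2 := congrArg Units.val h1
    rw [Units.val_pow_eq_pow_val, Frame.ratHom_val, Frame.ratHom_val] at h2
    rw [← h2]
    show S.rat (g ^ p ^ i) = 1
    rw [hi, S.rat_one]
  haveI : ExpChar F p := ExpChar.prime Fact.out
  rw [show S.rat g = 1 from iterateFrobenius_inj F p i (by simpa [iterateFrobenius_def] using h), one_smul]

theorem exists_pow_of_eich (S : Frame C) (p : ℕ) [Fact p.Prime] [CharP F p] {g : G3} (hg : g ∈ S.P.eichGroup) :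
    ∃ i, g ^ p ^ i = 1 := by
  obtain ⟨i, hi⟩ := S.P.isPGroup_eichGroup p ⟨g, hg⟩
  exact ⟨i, congrArg Subtype.val hi⟩

theorem exists_fixed_of_pelement (hF : Fintype.card F = q ^ 2) (p : ℕ) [Fact p.Prime] [CharP F p] {g : G3} {i : ℕ}
    (hi : g ^ p ^ i = 1) : ∃ S : Frame C, g ∈ S.P.eichGroup := by
  have hp : IsPGroup p (Subgroup.zpowers g) := by
    rintro ⟨w, k, rfl⟩
    refine ⟨i, Subtype.ext ?_⟩
    show (g ^ k) ^ p ^ i = 1
    rw [← zpow_natCast (g ^ k), ← _root_.zpow_mul, mul_comm, _root_.zpow_mul, zpow_natCast, hi, _root_.one_zpow]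
  obtain ⟨p', f, hp', hf, hq, hch⟩ := PGroup.UnitAll.exists_prime_data hF
  obtain rfl := CharP.eq F (‹CharP F p›) hch
  obtain ⟨x, hx⟩ := hp.nonempty_fixed_point_of_prime_not_dvd_card (UPoint C 3) (by
    rw [card_pts hF, hq]
    intro h
    have h1 : p ∣ (p ^ f) ^ 3 := Dvd.dvd.pow (dvd_pow_self p hf.ne') (by norm_num)
    exact (Fact.out : p.Prime).not_dvd_one ((Nat.dvd_add_right h1).1 h))
  obtain ⟨S, rfl⟩ := exists_frame_at x
  exact ⟨S, eich_of_pelement S p (hx ⟨g, Subgroup.mem_zpowers g⟩) hi⟩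

variable (H : Subgroup ↥(Cfsg.SU 3 F q))

theorem trans_of_eich (p : ℕ) [Fact p.Prime] [CharP F p]
    (hV : ∀ S : Frame C, ∃ g ∈ H, g ∈ S.P.eichGroup ∧ g ≠ 1) (x y : UPoint C 3) : ∃ k ∈ H, k • x = y := by
  refine gleason H Set.univ p (fun _ _ _ _ => trivial) (fun z _ => ?_) x trivial y trivial
  obtain ⟨S, rfl⟩ := exists_frame_at z
  obtain ⟨g, hg, hge, hg1⟩ := hV S
  exact ⟨g, hg, exists_pow_of_eich S p hge, S.eich_smul hge, fun w _ hw => S.eich_fix_only hge hg1 hw⟩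

/-- Either no element fixes one point only, with the extreme order, or every point has such an element. -/
theorem dichotomy (hF : Fintype.card F = q ^ 2) (hH : Nat.card G3 ≤ Nat.card H * q ^ 3) :
    ((∀ S : Frame C, ∀ g ∈ H, g ∈ S.P.eichGroup → g = 1) ∧ Nat.card H = (q ^ 2 - 1) * (q ^ 3 + 1) ∧
      (∀ S : Frame C, S.tval H = q ^ 2 - 1) ∧ ∀ x y : UPoint C 3, ∃ k ∈ H, k • x = y) ∨
    ∀ S : Frame C, ∃ g ∈ H, g ∈ S.P.eichGroup ∧ g ≠ 1 := by
  by_cases hA : ∀ S : Frame C, ∃ g ∈ H, g ∈ S.P.eichGroup ∧ g ≠ 1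
  · exact Or.inr hA
  left
  push Not at hA
  obtain ⟨S₀, hS₀⟩ := hA
  have hbot : ∀ S : Frame C, (∀ g ∈ H, g ∈ S.P.eichGroup → g = 1) → Nat.card ↥(S.bgrp H) = S.tval H := by
    intro S hS
    rw [S.card_bgrp, show H ⊓ S.P.eichGroup = ⊥ from (Subgroup.eq_bot_iff_forall _).2 fun g hg => hS g hg.1 hg.2,
      Subgroup.card_bot, one_mul]
  have hle : ∀ S : Frame C, S.tval H ≤ q ^ 2 - 1 := fun S => Nat.le_of_dvd (q_sq_pos hF) (S.tval_dvd H hF)
  have hcard : Nat.card H = (q ^ 2 - 1) * (q ^ 3 + 1) := by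
    obtain ⟨h1, h2⟩ := S₀.bgrp_ge H hF hH
    exact h2 (le_antisymm (hbot S₀ hS₀ ▸ hle S₀) h1)
  obtain ⟨p, f, hp, hf, hq, hch⟩ := PGroup.UnitAll.exists_prime_data hF
  haveI := Fact.mk hp
  haveI := hch
  have hnone : ∀ S : Frame C, ∀ g ∈ H, g ∈ S.P.eichGroup → g = 1 := by
    intro S g hg hge
    obtain ⟨i, hi⟩ := exists_pow_of_eich S p hge
    refine orderOf_eq_one_iff.1 ?_
    obtain ⟨j, -, hj⟩ := (Nat.dvd_prime_pow hp).1 (orderOf_dvd_of_pow_eq_one hi)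
    rcases j with _ | j
    · rw [hj, pow_zero]
    exfalso
    have h1 : p ∣ Nat.card H := (Dvd.intro_left _ (pow_succ p j).symm).trans
      (hj ▸ H.orderOf_dvd_natCard hg)
    have hpq : p ∣ q := hq ▸ dvd_pow_self p hf.ne'
    rw [hcard] at h1
    rcases hp.dvd_mul.1 h1 with h | h
    · have h3 : p ∣ q ^ 2 := Dvd.dvd.pow hpq (by norm_num)
      have h4 := Nat.dvd_sub h3 h
      rw [show q ^ 2 - (q ^ 2 - 1) = 1 by have := q_sq_pos hF; omega] at h4
      exact hp.not_dvd_one h4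
    · exact hp.not_dvd_one ((Nat.dvd_add_right (Dvd.dvd.pow hpq (by norm_num))).1 h)
  have ht : ∀ S : Frame C, S.tval H = q ^ 2 - 1 := fun S =>
    le_antisymm (hle S) (hbot S (hnone S) ▸ (S.bgrp_ge H hF hH).1)
  refine ⟨hnone, hcard, ht, fun x y => ?_⟩
  obtain ⟨S, rfl⟩ := exists_frame_at x
  have h1 := Subgroup.card_eq_card_quotient_mul_card_subgroup (MulAction.stabilizer H (pt S.P))
  rw [← Nat.card_congr (MulAction.orbitEquivQuotientStabilizer H (pt S.P)),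
    show Nat.card (MulAction.stabilizer H (pt S.P)) = Nat.card ↥(S.bgrp H) from
      Nat.card_congr ⟨fun g => ⟨g.1.1, g.1.2, g.2⟩, fun g => ⟨⟨g.1, g.2.1⟩, g.2.2⟩, fun g => rfl, fun g => rfl⟩,
    hbot S (hnone S), ht S, hcard, mul_comm] at h1
  have h2 := Nat.eq_of_mul_eq_mul_right (q_sq_pos hF) h1
  rw [← card_pts (C := C) hF, Nat.card_coe_set_eq, eq_comm] at h2
  have h3 : MulAction.orbit H (pt S.P) = Set.univ := Set.eq_of_subset_of_ncard_le (Set.subset_univ _)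
    (by rw [h2, Set.ncard_univ]) Set.finite_univ
  obtain ⟨⟨k, hk⟩, hk'⟩ := (h3.symm ▸ Set.mem_univ y : y ∈ MulAction.orbit H (pt S.P))
  exact ⟨k, hk, hk'⟩

end CfsgLib.PGroup.UnitThreeIndex
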