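import Cfsg.Agent.Lib.PGroup.UnitThreeIndex.Coords

/-!
Large subgroups containing no transvection.
-/

set_option autoImplicit false
set_option linter.unusedSectionVars false

namespace CfsgLib.PGroup.UnitThreeIndex

open scoped Matrix
open Matrix CfsgLib.SU CfsgLib.Classical

variable {F : Type*} [Field F] [Fintype F] {q : ℕ} {C : UCtx F q}

set_option quotPrecheck false

local notation "V3" => (Fin 3 → F)
local notation "G3" => ↥(Cfsg.SU 3 F q)

theorem Frame.rat_pow (S : Frame C) {g : G3} (hg : g • pt S.P = pt S.P) (n : ℕ) :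
    S.rat (g ^ n) = S.rat g ^ n :=
  (congrArg Units.val (map_pow (S.ratHom ⊤) ⟨g, Subgroup.mem_top g, hg⟩ n) :)

theorem Frame.pt_eq_of_e (S S' : Frame C) (h : S.P.e = S'.P.e) : pt S.P = pt S'.P := by
  rw [pt, pt, upt_eq_iff C (le_refl 3)]
  exact ⟨1, by rw [one_smul, h]⟩

/-- A cyclic point stabiliser of large order has a second fixed point. -/
theorem pair_data (K : Subgroup G3) (S₀ : Frame C) (hinj : ∀ g ∈ K, g ∈ S₀.P.eichGroup → g = 1)
    (ht : ¬ S₀.tval K ∣ q + 1) :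
    ∃ S : Frame C, S.P.e = S₀.P.e ∧ ∃ g ∈ K, g.1.1 *ᵥ S.P.e = S.rat g • S.P.e ∧ g • pt' S.P = pt' S.P ∧
      orderOf (S.rat g) = S₀.tval K ∧
      (∀ k ∈ K, k • pt S.P = pt S.P → k • pt' S.P = pt' S.P) ∧
      (∀ k ∈ K, k • pt S.P = pt' S.P → k • pt' S.P = pt S.P) := by
  obtain ⟨g, hg, hord⟩ := S₀.exists_rat_orderOf K
  have hge := S₀.mem_stab_iff.1 hg.2
  obtain ⟨P, hPe, hgy, honly⟩ := exists_second (C := C) S₀.P.ee S₀.P.e_ne_zero hge
    (fun h => ht (hord ▸ orderOf_dvd_of_pow_eq_one (norm_eq_pow (C := C) (S₀.rat g) ▸ h)))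
  obtain ⟨S, rfl⟩ := exists_frame P
  have hx : pt S.P = pt S₀.P := S.pt_eq_of_e S₀ hPe
  have hrat : S.rat g = S₀.rat g := S.rat_eq (by rw [hPe, hge])
  have hfix : ∀ k ∈ K, k • pt S.P = pt S.P → k • pt' S.P = pt' S.P := by
    intro k hk hkx
    rw [hx] at hkx
    have hcomm : k * g = g * k := by
      let kk : ↥(S₀.bgrp K) := ⟨k, hk, hkx⟩
      let gg : ↥(S₀.bgrp K) := ⟨g, hg⟩
      have h1 : S₀.rat (k * g * k⁻¹ * g⁻¹) = 1 := by
        have h : S₀.ratHom K (kk * gg * kk⁻¹ * gg⁻¹) = 1 := by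
          simp only [map_mul, map_inv]
          rw [mul_comm (S₀.ratHom K kk), mul_inv_cancel_right, mul_inv_cancel]
        exact congrArg Units.val h
      have hmem : k * g * k⁻¹ * g⁻¹ ∈ S₀.bgrp K := (kk * gg * kk⁻¹ * gg⁻¹).2
      have := hinj _ hmem.1 (S₀.eichGroup_iff.2 (by rw [S₀.mem_stab_iff.1 hmem.2, h1, one_smul]))
      exact eq_mul_of_mul_inv_eq (mul_inv_eq_one.1 this)
    have h2 : g • k • pt' S.P = k • pt' S.P := by rw [← mul_smul, ← hcomm, mul_smul, hgy]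
    rcases honly _ h2 with h | h
    · exfalso
      rw [hx] at h
      exact pt_ne S.P (hx.trans (smul_left_cancel k (hkx.trans h.symm)))
    · exact h
  refine ⟨S, hPe, g, hg.1, by rw [hrat, hPe]; exact hge, hgy, hrat ▸ hord, hfix, fun k hk hkx => ?_⟩
  have h3 : (k⁻¹ * g * k) • pt S.P = pt S.P := by
    rw [mul_smul, mul_smul, hkx, hgy, ← hkx, inv_smul_smul]
  have h4 := hfix _ (mul_mem (mul_mem (inv_mem hk) hg.1) hk) h3
  rw [mul_smul, mul_smul, inv_smul_eq_iff] at h4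
  rcases honly _ h4 with h | h
  · exact h
  · exact absurd (smul_left_cancel k (hkx.trans h.symm)) (pt_ne S.P)

/-- Partners stay on a chord whose pointwise stabiliser meets the group. -/
theorem partner_onL (K : Subgroup G3) (S : Frame C) {h₀ : G3} (hh₀ : h₀ ∈ K)
    (hfixset : ∀ z : UPoint C 3, h₀ • z = z ↔ S.OnL z)
    (hfix : ∀ k ∈ K, k • pt S.P = pt S.P → k • pt' S.P = pt' S.P) :
    ∀ k ∈ K, S.OnL (k • pt S.P) → S.OnL (k • pt' S.P) := by
  intro k hk hL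
  have h1 := hfix _ (mul_mem (mul_mem (inv_mem hk) hh₀) hk)
    (by rw [mul_smul, mul_smul, (hfixset _).2 hL, inv_smul_smul])
  rw [mul_smul, mul_smul, inv_smul_eq_iff] at h1
  exact (hfixset _).1 h1

variable (H : Subgroup ↥(Cfsg.SU 3 F q))

include C in
/-- A subgroup without elements fixing a single point exists only for three. -/
theorem caseA (hF : Fintype.card F = q ^ 2) (hq : 3 ≤ q) (h5 : q ≠ 5)
    (hnone : ∀ S : Frame C, ∀ g ∈ H, g ∈ S.P.eichGroup → g = 1)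
    (ht : ∀ S : Frame C, S.tval H = q ^ 2 - 1) (htr : ∀ x y : UPoint C 3, ∃ k ∈ H, k • x = y) : q = 3 := by
  obtain ⟨P₀⟩ := C.exists_pair (n := 3) (by norm_num)
  obtain ⟨S₀, -⟩ := exists_frame P₀
  have hq4 : 3 * 3 ≤ q * q := Nat.mul_le_mul hq hq
  have hndvd : ¬ S₀.tval H ∣ q + 1 := fun h => by
    have h1 := Nat.le_of_dvd (by omega) h
    rw [ht, sq] at h1
    have : 3 * q ≤ q * q := Nat.mul_le_mul_right q hq
    omega
  obtain ⟨S, hSe, g, hg, hge, hgy, hord, hfix, hswap⟩ := pair_data H S₀ (hnone S₀) hndvd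
  rw [ht] at hord
  have hgx : g • pt S.P = pt S.P := S.mem_stab_iff.2 hge
  have hgn : ∀ n : ℕ, g ^ n • pt S.P = pt S.P ∧ g ^ n • pt' S.P = pt' S.P := fun n =>
    ⟨(MulAction.stabilizer G3 (pt S.P)).pow_mem hgx n, (MulAction.stabilizer G3 (pt' S.P)).pow_mem hgy n⟩
  have he : (g ^ (q - 1)).1.1 *ᵥ S.P.e = (S.rat g ^ (q - 1)) • S.P.e := by
    rw [← S.rat_pow hgx]; exact S.mem_stab_iff.1 (hgn _).1
  obtain ⟨-, hfs⟩ := S.onL_of_diag he (hgn _).2 (by
    rw [norm_eq_pow, ← pow_mul, mul_comm, ← sq_sub_one, ← hord, pow_orderOf_eq_one])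
  have hL := partner_onL H S (pow_mem hg (q - 1)) (hfs (by
    rw [← pow_mul]
    refine pow_ne_one_of_lt_orderOf (by omega) ?_
    rw [hord, sq_sub_one, mul_comm (q + 1)]
    exact Nat.mul_lt_mul_of_pos_left (by omega) (by omega))) hfix
  obtain ⟨h1, h2⟩ := S.chord_bound hF H rfl hfix hswap (fun R _ => htr _ R) hL one_pos fun s hs0 hs => by
    obtain ⟨z, hz⟩ := C.exists_norm hs
    have hz0 : z ≠ 0 := fun h => hs0 (by rw [← hz, h, zero_mul])
    obtain ⟨d, hd, hdz⟩ := S₀.exists_rat_of_pow H (z := z) (by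
      rw [ht, ← hF]; exact FiniteField.pow_card_sub_one_eq_one z hz0)
    refine ⟨d, hd.1, hfix d hd.1 (by rw [S.pt_eq_of_e S₀ hSe]; exact hd.2), z, ?_, by rw [hz, pow_one]⟩
    rw [hSe, S₀.mem_stab_iff.1 hd.2, hdz]
  obtain ⟨k, hk⟩ := h2 rfl
  omega

section noTv

theorem frame_facts (S : Frame C) (hF : Fintype.card F = q ^ 2) (hq : 3 ≤ q) (h5 : q ≠ 5)
    (hH : Nat.card G3 ≤ Nat.card H * q ^ 3) (hV : ∃ g ∈ H, g ∈ S.P.eichGroup ∧ g ≠ 1)
    (hnoW : ∀ g ∈ H, g ∈ S.P.eichGroup → S.pv g = 0 → g = 1) :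
    Nat.card ↥(H ⊓ S.P.eichGroup) = q ∧ Odd q ∧ (2 : F) ≠ 0 ∧ q % 3 = 2 ∧
      (S.tval H = 3 * (q - 1) ∨ 2 * S.tval H = 3 * (q - 1)) ∧
      ∃ p f : ℕ, p.Prime ∧ 5 ≤ p ∧ q = p ^ f := by
  classical
  obtain ⟨p, f, hp, hf, hqp, hch⟩ := PGroup.UnitAll.exists_prime_data hF
  haveI := Fact.mk hp
  haveI := hch
  obtain ⟨g0, hg0H, hg0e, hg01⟩ := hV
  have hinj : ∀ g ∈ H, g ∈ S.P.eichGroup → ∀ h ∈ H, h ∈ S.P.eichGroup → S.pv g = S.pv h → g = h := by
    intro g hg hge h hh hhe e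
    rw [← inv_mul_eq_one]
    refine hnoW _ (mul_mem (inv_mem hg) hh) (mul_mem (inv_mem hge) hhe) ?_
    rw [(S.eich_mul (inv_mem hge) hhe).1, S.pv_inv hge, e, neg_add_cancel]
  have hg0π : S.pv g0 ≠ 0 := fun h => hg01 (hnoW _ hg0H hg0e h)
  have hp2 : p ≠ 2 := by
    rintro rfl
    have h2 : (2 : F) = 0 := by exact_mod_cast CharP.cast_eq_zero F 2
    obtain ⟨h1, h3⟩ := S.eich_mul hg0e hg0e
    rw [← two_mul, h2, zero_mul] at h1
    rw [hnoW _ (mul_mem hg0H hg0H) (mul_mem hg0e hg0e) h1, S.tauv_one, ← two_mul, h2, zero_mul, zero_sub,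
      zero_eq_neg] at h3
    rcases mul_eq_zero.1 h3 with h | h
    · exact hg0π h
    · exact hg0π (by simpa using h)
  have hodd : Odd q := hqp ▸ (hp.odd_of_ne_two hp2).pow
  have h2F : (2 : F) ≠ 0 := fun h => hp2 ((Nat.prime_dvd_prime_iff_eq hp Nat.prime_two).1
    ((CharP.cast_eq_zero_iff F p 2).1 (by exact_mod_cast h)))
  have hfixed : ∀ g ∈ H, g ∈ S.P.eichGroup → C.bar (S.pv g * C.bar (S.pv g0)) = S.pv g * C.bar (S.pv g0) := by
    intro g hg hge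
    have h1 := hinj _ (mul_mem hg hg0H) (mul_mem hge hg0e) _ (mul_mem hg0H hg) (mul_mem hg0e hge)
      (by rw [(S.eich_mul hge hg0e).1, (S.eich_mul hg0e hge).1, add_comm])
    have h3 := congrArg S.tauv h1
    rw [(S.eich_mul hge hg0e).2, (S.eich_mul hg0e hge).2] at h3
    rw [map_mul, C.bar_bar]
    linear_combination -h3
  have hVq : Nat.card ↥(H ⊓ S.P.eichGroup) ≤ q := by
    refine le_of_le_of_eq ?_ (PGroup.UnitAll.card_fixed (C := C) hF)
    refine Nat.card_le_card_of_injective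
      (fun g : ↥(H ⊓ S.P.eichGroup) => (⟨S.pv g.1 * C.bar (S.pv g0), hfixed g.1 g.2.1 g.2.2⟩ : {c : F // C.bar c = c}))
      fun a b h => Subtype.ext (hinj _ a.2.1 a.2.2 _ b.2.1 b.2.2
        (mul_right_cancel₀ (by simpa using hg0π) (congrArg Subtype.val h)))
  have ht3 : S.tval H ∣ 3 * (q - 1) := by
    obtain ⟨g, hg, hord⟩ := S.exists_rat_orderOf H
    have hge := S.mem_stab_iff.1 hg.2
    rw [← hord]
    set a := S.rat g
    obtain ⟨hce, hcπ, -⟩ := S.conj_coords hge hg0e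
    have h1 := hfixed _ (mul_mem (mul_mem hg.1 hg0H) (inv_mem hg.1)) hce
    rw [hcπ, mul_assoc, map_mul, hfixed g0 hg0H hg0e] at h1
    have h2 := mul_right_cancel₀ (mul_ne_zero hg0π (by simpa using hg0π)) h1
    have ha0 : a ≠ 0 := S.rat_ne_zero hg.2
    have hba : C.bar a ≠ 0 := by simpa using ha0
    rw [map_div₀, map_pow, C.bar_bar, div_eq_div_iff hba ha0] at h2
    refine orderOf_dvd_of_pow_eq_one (mul_right_cancel₀ (pow_ne_zero 3 ha0) ?_)
    rw [← pow_add, one_mul, show 3 * (q - 1) + 3 = q * 3 by omega, pow_mul, ← C.bar_eq]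
    linear_combination -h2
  obtain ⟨k, hk⟩ := ((S.P.isPGroup_eichGroup p).to_le (inf_le_right : H ⊓ S.P.eichGroup ≤ _)).exists_card_eq
  obtain ⟨hb, -⟩ := S.bgrp_ge H hF hH
  rw [S.card_bgrp] at hb
  obtain ⟨j, hj⟩ := ht3
  have hsq : q ^ 2 - 1 = (q + 1) * (q - 1) := sq_sub_one
  have ht2 := S.tval_dvd H hF
  rw [hsq] at hb ht2
  generalize Nat.card ↥(H ⊓ S.P.eichGroup) = V at *
  generalize S.tval H = t at *
  obtain ⟨q', rfl⟩ : ∃ q', q = q' + 1 := ⟨q - 1, by omega⟩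
  rw [Nat.add_sub_cancel] at hb hj ht2 ⊢
  have hj12 : j = 1 ∨ j = 2 := by
    by_contra h
    have hj0 : j ≠ 0 := by rintro rfl; omega
    have h3 : t * 3 ≤ 3 * q' := hj ▸ Nat.mul_le_mul_left t (by omega)
    have h4 : V * t ≤ (q' + 1) * q' := Nat.mul_le_mul hVq (by omega)
    have : (q' + 1) * q' < (q' + 1 + 1) * q' := Nat.mul_lt_mul_of_pos_right (by omega) (by omega)
    omega
  have h3q : 3 ∣ q' + 1 + 1 := by
    have h : 3 * q' ∣ j * (q' + 1 + 1) * q' := by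
      rw [hj, mul_comm t j, mul_assoc]
      exact mul_dvd_mul_left j ht2
    have h' := Nat.dvd_of_mul_dvd_mul_right (by omega) h
    rcases hj12 with rfl | rfl
    · simpa using h'
    · exact (Nat.Coprime.dvd_of_dvd_mul_left (by norm_num) h')
  have hp5 : 5 ≤ p := by
    have : p ≠ 3 := by
      rintro rfl
      have : 3 ∣ q' + 1 := hqp ▸ dvd_pow_self 3 hf.ne'
      omega
    have := hp.two_le
    have : p ≠ 4 := by rintro rfl; exact absurd hp (by decide)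
    omega
  refine ⟨?_, hodd, h2F, by omega, ?_, p, f, hp, hp5, hqp⟩
  · rcases lt_or_eq_of_le hVq with hlt | he
    · exfalso
      have hkf : k < f := (Nat.pow_lt_pow_iff_right hp.one_lt).1 (hk ▸ hqp ▸ hlt)
      have h5V : 5 * V ≤ q' + 1 := by
        rw [hk, hqp]
        calc 5 * p ^ k ≤ p * p ^ k := Nat.mul_le_mul_right _ hp5
          _ = p ^ (k + 1) := (pow_succ' p k).symm
          _ ≤ p ^ f := Nat.pow_le_pow_right hp.pos hkf
      have h3 : t ≤ 3 * q' := Nat.le_of_dvd (by omega) ⟨j, hj⟩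
      have h4 : 5 * V * t ≤ (q' + 1) * (3 * q') := Nat.mul_le_mul h5V h3
      nlinarith
    · exact he
  · rcases hj12 with rfl | rfl <;> omega

include C in
/-- Subgroups without transvections are small except for three orders. -/
theorem caseB1 (hF : Fintype.card F = q ^ 2) (hq : 3 ≤ q) (h5 : q ≠ 5)
    (hH : Nat.card G3 ≤ Nat.card H * q ^ 3) (hV : ∀ S : Frame C, ∃ g ∈ H, g ∈ S.P.eichGroup ∧ g ≠ 1)
    (hnoW : ∀ S : Frame C, ∀ g ∈ H, g ∈ S.P.eichGroup → S.pv g = 0 → g = 1) :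
    (q = 11 ∧ Nat.card H = 1332 * 330) ∨ (q = 17 ∧ Nat.card H = 4914 * 408) ∨
      (q = 29 ∧ Nat.card H = 24390 * 1218) := by
  classical
  obtain ⟨p, f, hp, hf, hqp, hch⟩ := PGroup.UnitAll.exists_prime_data hF
  haveI := Fact.mk hp
  haveI := hch
  have htr := trans_of_eich H p hV
  obtain ⟨P₀⟩ := C.exists_pair (n := 3) (by norm_num)
  obtain ⟨S₀, -⟩ := exists_frame P₀
  obtain ⟨hVq, hodd, h2F, h3q, htj, p', f', hp', hp5, hqp'⟩ := frame_facts H S₀ hF hq h5 hH (hV S₀) (hnoW S₀)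
  have hbc : ∀ S : Frame C, Nat.card H = (q ^ 3 + 1) * Nat.card ↥(S.bgrp H) := fun S => by
    rw [card_of_transitive H (pt S.P) (htr _), card_pts hF]
    rfl
  have hcard : Nat.card H = (q ^ 3 + 1) * (q * S₀.tval H) := by rw [hbc S₀, S₀.card_bgrp, hVq]
  set t := S₀.tval H with htdef
  have htev : Even t := by
    have h2H : 2 ∣ Nat.card H := by
      rw [hcard]
      exact Dvd.dvd.mul_right (hodd.pow.add_odd odd_one).two_dvd _
    obtain ⟨z, hz⟩ := exists_prime_orderOf_dvd_card' 2 h2H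
    have hz2 : orderOf (z : G3) = 2 := by rw [Subgroup.orderOf_coe]; exact hz
    have hzz : (z : G3) * z = 1 := by rw [← sq, ← hz2, pow_orderOf_eq_one]
    obtain ⟨S', hS', -⟩ := involution_frame (C := C) h2F hzz (fun h => by simp [h] at hz2)
    have hzb : (z : G3) ∈ S'.bgrp H := ⟨z.2, S'.mem_stab_iff.2 (by rw [S'.rat_eq hS', hS'])⟩
    have hord : orderOf (-1 : F) = 2 := orderOf_eq_prime (by norm_num)
      (fun h => h2F (by linear_combination -h))
    obtain ⟨hVq', -⟩ := frame_facts H S' hF hq h5 hH (hV S') (hnoW S')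
    have he : S'.tval H = t := by
      have := hbc S'
      rw [S'.card_bgrp, hVq', hcard] at this
      exact (Nat.eq_of_mul_eq_mul_left (by omega) (Nat.eq_of_mul_eq_mul_left (Nat.succ_pos _) this)).symm
    rw [← he, even_iff_two_dvd, ← hord]
    have := S'.rat_pow_tval H hzb
    rw [S'.rat_eq hS'] at this
    exact orderOf_dvd_of_pow_eq_one this
  -- the involution
  obtain ⟨g₁, hg₁, hg₁r⟩ := S₀.exists_rat_of_pow H (z := (-1 : F)) htev.neg_one_pow
  obtain ⟨j, hj⟩ : ∃ j, j = g₁ ^ q := ⟨_, rfl⟩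
  have hjb : j ∈ S₀.bgrp H := hj ▸ pow_mem hg₁ q
  have hje : j.1.1 *ᵥ S₀.P.e = (-1 : F) • S₀.P.e := by
    rw [S₀.mem_stab_iff.1 hjb.2, hj, S₀.rat_pow hg₁.2, hg₁r, hodd.neg_one_pow]
  have hjj : j * j = 1 := by
    have hmem : g₁ * g₁ ∈ H ⊓ S₀.P.eichGroup := ⟨mul_mem hg₁.1 hg₁.1, S₀.eichGroup_iff.2 (by
      have := S₀.mem_stab_iff.1 hg₁.2
      rw [hg₁r] at this
      rw [suMat_mulVec_mul, this, Matrix.mulVec_smul, this, smul_smul, neg_one_mul, neg_neg, one_smul])⟩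
    rw [hj, ← pow_add, ← two_mul, pow_mul, sq]
    exact orderOf_dvd_iff_pow_eq_one.1 (((H ⊓ S₀.P.eichGroup).orderOf_dvd_natCard hmem).trans hVq.dvd)
  have hjinv : j⁻¹ = j := inv_eq_of_mul_eq_one_right hjj
  have lift : ∀ j' ∈ H, j'.1.1 *ᵥ S₀.P.e = (-1 : F) • S₀.P.e → j' * j' = 1 →
      ∃ s ∈ H ⊓ S₀.P.eichGroup, s * j * s⁻¹ = j' := by
    intro j' hj' he hjj'
    set v := j' * j with hv
    have hvm : v ∈ H ⊓ S₀.P.eichGroup := ⟨mul_mem hj' hjb.1, S₀.eichGroup_iff.2 (by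
      rw [hv, suMat_mulVec_mul, hje, Matrix.mulVec_smul, he, smul_smul, neg_one_mul, neg_neg, one_smul])⟩
    have hvq : v ^ q = 1 := orderOf_dvd_iff_pow_eq_one.1 (((H ⊓ S₀.P.eichGroup).orderOf_dvd_natCard hvm).trans hVq.dvd)
    obtain ⟨n, hn⟩ : ∃ n, q + 1 = n + n := hodd.add_odd odd_one
    set s := v ^ n with hs
    have hss : s * s = v := by rw [hs, ← pow_add, ← hn, pow_succ, hvq, one_mul]
    have h1 : j * v⁻¹ * j⁻¹ = v := by
      rw [hv, hjinv, _root_.mul_inv_rev, hjinv, inv_eq_of_mul_eq_one_right hjj', ← mul_assoc, hjj, one_mul]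
    have h2 : j * s⁻¹ * j⁻¹ = s := by rw [hs, ← inv_pow, ← conj_pow, h1]
    refine ⟨s, pow_mem hvm n, ?_⟩
    calc s * j * s⁻¹ = s * (j * s⁻¹ * j⁻¹) * j := by group
      _ = j' := by rw [h2, hss, hv, mul_assoc, hjj, mul_one]
  set K : Subgroup G3 := H ⊓ Subgroup.centralizer {j} with hK
  have memK : ∀ k, k ∈ K ↔ k ∈ H ∧ j * k = k * j := fun k => by
    rw [hK, Subgroup.mem_inf, Subgroup.mem_centralizer_singleton_iff]
    exact and_congr_right fun _ => eq_comm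
  have hjK : j ∈ K := (memK j).2 ⟨hjb.1, rfl⟩
  have hinj : ∀ g ∈ K, g ∈ S₀.P.eichGroup → g = 1 := by
    intro g hg hge
    obtain ⟨-, h, -⟩ := S₀.conj_coords hje hge
    rw [((memK g).1 hg).2, mul_inv_cancel_right] at h
    refine hnoW S₀ g ((memK g).1 hg).1 hge ?_
    have h' : (2 : F) * S₀.pv g = 0 := by
      rw [map_neg, map_one, neg_sq, one_pow, div_neg, div_one, neg_one_mul] at h
      linear_combination h
    exact (mul_eq_zero.1 h').resolve_left h2F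
  have htK : S₀.tval K = t := by
    refine Nat.dvd_antisymm ?_ ?_
    · obtain ⟨g, hg, hord⟩ := S₀.exists_rat_orderOf K
      rw [← hord]
      exact orderOf_dvd_of_pow_eq_one (S₀.rat_pow_tval H ⟨((memK g).1 hg.1).1, hg.2⟩)
    · obtain ⟨g, hg, hord⟩ := S₀.exists_rat_orderOf H
      have hge := S₀.mem_stab_iff.1 hg.2
      set a := S₀.rat g
      have hgi : g⁻¹.1.1 *ᵥ S₀.P.e = a⁻¹ • S₀.P.e := by
        have := su_inv_mulVec g S₀.P.e
        rw [hge, Matrix.mulVec_smul] at this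
        rw [eq_inv_smul_iff₀ (S₀.rat_ne_zero hg.2)]
        exact this
      obtain ⟨s, hs, hsj⟩ := lift (g * j * g⁻¹) (mul_mem (mul_mem hg.1 hjb.1) (inv_mem hg.1))
        (by rw [suMat_mulVec_mul, suMat_mulVec_mul, hgi, Matrix.mulVec_smul, hje, smul_comm, Matrix.mulVec_smul,
          Matrix.mulVec_smul, hge, inv_smul_smul₀ (S₀.rat_ne_zero hg.2)])
        (by rw [show g * j * g⁻¹ * (g * j * g⁻¹) = g * (j * j) * g⁻¹ by group, hjj, mul_one, mul_inv_cancel])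
      have hk : (s⁻¹ * g).1.1 *ᵥ S₀.P.e = a • S₀.P.e := by
        rw [suMat_mulVec_mul, hge, Matrix.mulVec_smul, S₀.eichGroup_iff.1 (inv_mem hs.2)]
      have hkK : s⁻¹ * g ∈ K := by
        refine (memK _).2 ⟨mul_mem (inv_mem hs.1) hg.1, ?_⟩
        calc j * (s⁻¹ * g) = s⁻¹ * (s * j * s⁻¹) * g := by group
          _ = s⁻¹ * g * j := by rw [hsj]; group
      rw [htdef, ← hord]
      have := S₀.rat_pow_tval K (g := s⁻¹ * g) ⟨hkK, S₀.mem_stab_iff.2 (by rw [S₀.rat_eq hk, hk])⟩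
      rw [S₀.rat_eq hk] at this
      exact orderOf_dvd_of_pow_eq_one this
  have hndvd : ¬ S₀.tval K ∣ q + 1 := fun h => by
    rw [htK] at h
    obtain ⟨i, hi⟩ := h
    obtain ⟨e, he⟩ := hodd
    rcases htj with h1 | h1
    · have := Nat.le_of_dvd (by omega) (Dvd.intro i hi.symm)
      omega
    · have := Nat.le_of_dvd (by omega) (Dvd.intro i hi.symm)
      omega
  obtain ⟨S, hSe, g, hg, hge, hgy, -, hfix, hswap⟩ := pair_data K S₀ hinj hndvd
  have hjx : j • pt S.P = pt S.P := by rw [S.pt_eq_of_e S₀ hSe]; exact hjb.2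
  obtain ⟨hneg, hfs⟩ := S.onL_of_diag (g := j) (a := -1) (by rw [hSe]; exact hje) (hfix j hjK hjx)
    (by rw [map_neg, map_one, neg_one_mul, neg_neg])
  have hfs' := hfs (fun h => h2F (by linear_combination -h))
  have hL := partner_onL K S hjK hfs' hfix
  have htrK : ∀ R, S.OnL R → ∃ k ∈ K, k • pt S.P = R := by
    intro R hR
    obtain ⟨h, hh, hhx⟩ := htr (pt S₀.P) R
    obtain ⟨v, hv, hv0, hvu, rfl⟩ := hR
    obtain ⟨c, hc⟩ := (smul_pt_eq_iff h S₀.P.ee S₀.P.e_ne_zero hv hv0).1 hhx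
    obtain ⟨s, hs, hsj⟩ := lift (h⁻¹ * j * h) (mul_mem (mul_mem (inv_mem hh) hjb.1) hh)
      (by rw [suMat_mulVec_mul, suMat_mulVec_mul, hc, Matrix.mulVec_smul, hneg v hvu, smul_comm,
        Matrix.mulVec_smul, ← hc, su_inv_mulVec])
      (by rw [show h⁻¹ * j * h * (h⁻¹ * j * h) = h⁻¹ * (j * j) * h by group, hjj, mul_one, inv_mul_cancel])
    refine ⟨h * s, (memK _).2 ⟨mul_mem hh hs.1, ?_⟩, ?_⟩
    · calc j * (h * s) = h * (h⁻¹ * j * h) * s := by group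
        _ = h * s * j := by rw [← hsj]; group
    · rw [S.pt_eq_of_e S₀ hSe, mul_smul, S₀.eich_smul hs.2, hhx]
  have hsfix : ∀ s : F, s ≠ 0 → C.bar s = s → s ^ (3 * (q - 1)) = 1 := fun s hs0 hs => by
    rw [mul_comm, pow_mul, (fixed_iff_pow hs0).1 hs, one_pow]
  have hdg : ∀ z : F, z ^ t = 1 → ∃ d ∈ K, d • pt' S.P = pt' S.P ∧ d.1.1 *ᵥ S.P.e = z • S.P.e := by
    intro z hz
    obtain ⟨d, hd, hdz⟩ := S₀.exists_rat_of_pow K (z := z) (htK.symm ▸ hz)
    exact ⟨d, hd.1, hfix d hd.1 (by rw [S.pt_eq_of_e S₀ hSe]; exact hd.2),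
      by rw [hSe, S₀.mem_stab_iff.1 hd.2, hdz]⟩
  rcases htj with h1 | h1
  · obtain ⟨hb, -⟩ := S.chord_bound hF K rfl hfix hswap htrK hL (m := 2) two_pos fun s hs0 hs => by
      obtain ⟨d, h2, h3, h4⟩ := hdg s (h1 ▸ hsfix s hs0 hs)
      exact ⟨d, h2, h3, s, h4, by rw [hs, sq]⟩
    obtain ⟨e, he⟩ := hodd
    have : q = 11 := by omega
    subst this
    exact Or.inl ⟨rfl, by rw [hcard, h1]; norm_num⟩
  · obtain ⟨hb, -⟩ := S.chord_bound hF K rfl hfix hswap htrK hL (m := 4) (by norm_num) fun s hs0 hs => by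
      obtain ⟨d, h2, h3, h4⟩ := hdg (s ^ 2) (by rw [← pow_mul, h1, hsfix s hs0 hs])
      exact ⟨d, h2, h3, s ^ 2, h4, by rw [map_pow, hs, ← pow_add]⟩
    obtain ⟨e, he⟩ := hodd
    obtain ⟨e', he'⟩ := htev
    have : q = 17 ∨ q = 29 := by omega
    rcases this with rfl | rfl
    · exact Or.inr (Or.inl ⟨rfl, by rw [hcard, show t = 24 by omega]; norm_num⟩)
    · exact Or.inr (Or.inr ⟨rfl, by rw [hcard, show t = 42 by omega]; norm_num⟩)

end noTv

end CfsgLib.PGroup.UnitThreeIndex
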