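import Cfsg.Agent.Lib.PGroup.UnitThreeIndex.Elation

/-!
The two small configurations with a proper root subgroup.
-/

set_option autoImplicit false
set_option linter.unusedSectionVars false

namespace CfsgLib.PGroup.UnitThreeIndex

open scoped Matrix
open Matrix CfsgLib.SU CfsgLib.Classical

variable {F : Type*} [Field F] [Fintype F] {q : ℕ} {C : UCtx F q}

set_option quotPrecheck false

local notation "V3" => (Fin 3 → F)
local notation "G3" => ↥(Cfsg.SU 3 F q)

variable (H : Subgroup ↥(Cfsg.SU 3 F q)) (S : Frame C)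

/-- Conjugation on the transvections of a point. -/
theorem wgrp_conj {g z : ↥(Cfsg.SU 3 F q)} (hg : g ∈ S.bgrp H) (hz : z ∈ S.wgrp H) :
    g * z * g⁻¹ ∈ S.wgrp H ∧ S.tauv (g * z * g⁻¹) = S.rat g * C.bar (S.rat g) * S.tauv z := by
  obtain ⟨z0, ze, zp⟩ := (S.mem_wgrp H).1 hz
  obtain ⟨h1, h2, h3⟩ := S.conj_coords (S.mem_stab_iff.1 hg.2) ze
  exact ⟨(S.mem_wgrp H).2 ⟨mul_mem (mul_mem hg.1 z0) (inv_mem hg.1), h1, by rw [h2, zp, mul_zero]⟩, h3 zp⟩

theorem wgrp_two (hw : Nat.card ↥(S.wgrp H) = 2) :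
    ∃ z ∈ S.wgrp H, z ≠ 1 ∧ ∀ g ∈ S.wgrp H, g = 1 ∨ g = z := by
  obtain ⟨x, y, hxy, huniv⟩ := Nat.card_eq_two_iff.1 hw
  have h : ∀ g : ↥(S.wgrp H), g = x ∨ g = y := fun g => by
    have := huniv ▸ Set.mem_univ g
    simpa using this
  rcases h 1 with e | e
  · refine ⟨y.1, y.2, fun h' => hxy (e.symm.trans (Subtype.ext h'.symm)), fun g hg => ?_⟩
    rcases h ⟨g, hg⟩ with e' | e'
    · exact Or.inl (congrArg Subtype.val (e'.trans e.symm))
    · exact Or.inr (congrArg Subtype.val e')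
  · refine ⟨x.1, x.2, fun h' => hxy ((Subtype.ext h' : x = 1).trans e), fun g hg => ?_⟩
    rcases h ⟨g, hg⟩ with e' | e'
    · exact Or.inr (congrArg Subtype.val e')
    · exact Or.inl (congrArg Subtype.val (e'.trans e.symm))

include S in
/-- Two transvections at a point in even characteristic. -/
theorem even_case (hF : Fintype.card F = q ^ 2) (hq : 3 ≤ q) (hH : Nat.card G3 ≤ Nat.card H * q ^ 3) [CharP F 2]
    {f : ℕ} (hqp : q = 2 ^ f) (hw : Nat.card ↥(S.wgrp H) = 2) : q = 8 ∧ Nat.card ↥(S.bgrp H) = 72 := by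
  classical
  have h2 : (2 : F) = 0 := by exact_mod_cast CharP.cast_eq_zero F 2
  obtain ⟨z, hz, hz1, hWz⟩ := wgrp_two H S hw
  obtain ⟨z0, ze, zp⟩ := (S.mem_wgrp H).1 hz
  set τ := S.tauv z with hτ
  have hτ0 : τ ≠ 0 := fun h => hz1 (S.eq_one_of_coords ze zp h)
  have hnorm : ∀ g ∈ S.bgrp H, S.rat g * C.bar (S.rat g) = 1 := by
    intro g hg
    obtain ⟨h1, h3⟩ := wgrp_conj H S hg hz
    rcases hWz _ h1 with h | h
    · exact absurd (show z = 1 by rw [conj_eq_one_iff] at h; exact h) hz1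
    · rw [h, ← hτ] at h3
      exact (mul_right_cancel₀ hτ0 (h3.symm.trans (one_mul τ).symm) :)
  have hπ : ∀ v ∈ H, v ∈ S.P.eichGroup → S.pv v ≠ 0 → S.pv v * C.bar (S.pv v) = τ := by
    intro v hv hve hne
    obtain ⟨h1, h3⟩ := S.eich_mul hve hve
    rw [← two_mul, h2, zero_mul] at h1
    rw [← two_mul, h2, zero_mul, zero_sub, CharTwo.neg_eq] at h3
    rcases hWz _ ((S.mem_wgrp H).2 ⟨mul_mem hv hv, mul_mem hve hve, h1⟩) with h | h
    · rw [h, S.tauv_one, eq_comm, mul_eq_zero] at h3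
      rcases h3 with h3 | h3
      · exact absurd h3 hne
      · exact absurd (by simpa using h3) hne
    · rw [h] at h3; exact h3.symm
  let V : Subgroup G3 := H ⊓ S.P.eichGroup
  let π : ↥V →* Multiplicative F :=
    MonoidHom.mk' (fun v => Multiplicative.ofAdd (S.pv v.1)) fun a b => by
      rw [Subgroup.coe_mul, (S.eich_mul a.2.2 b.2.2).1, ofAdd_add]
  have hker : Nat.card π.ker = 2 := by
    rw [← hw]
    refine Nat.card_congr ⟨fun v => ⟨v.1.1, (S.mem_wgrp H).2 ⟨v.1.2.1, v.1.2.2, ?_⟩⟩,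
      fun g => ⟨⟨g.1, ((S.mem_wgrp H).1 g.2).1, ((S.mem_wgrp H).1 g.2).2.1⟩, ?_⟩, fun v => rfl, fun g => rfl⟩
    · exact Multiplicative.ofAdd.injective (MonoidHom.mem_ker.1 v.2)
    · exact MonoidHom.mem_ker.2 (congrArg Multiplicative.ofAdd ((S.mem_wgrp H).1 g.2).2.2)
  have hVc : Nat.card ↥V = 2 * Nat.card π.range := by rw [← Subgroup.card_mul_index π.ker, Subgroup.index_ker, hker]
  have hb := (S.bgrp_ge H hF hH).1
  rw [S.card_bgrp] at hb
  change q ^ 2 - 1 ≤ Nat.card ↥V * S.tval H at hb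
  obtain ⟨g, hg, hord⟩ := S.exists_rat_orderOf H
  set a := S.rat g
  have hq1 : S.tval H ∣ q + 1 := hord ▸ orderOf_dvd_of_pow_eq_one (norm_eq_pow (C := C) a ▸ hnorm g hg)
  have hq4 : 4 ≤ q := by
    rcases f with _ | _ | f
    · norm_num at hqp; omega
    · norm_num at hqp; omega
    · rw [hqp, pow_succ, pow_succ]
      have := Nat.one_le_two_pow (n := f)
      omega
  by_cases hne : ∃ v ∈ H, v ∈ S.P.eichGroup ∧ S.pv v ≠ 0
  swap
  · exfalso
    push Not at hne
    have h1 : Nat.card π.range = 1 := by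
      rw [Nat.card_eq_one_iff_unique]
      refine ⟨⟨fun x y => ?_⟩, ⟨1⟩⟩
      obtain ⟨_, v, rfl⟩ := x
      obtain ⟨_, w, rfl⟩ := y
      exact Subtype.ext (congrArg Multiplicative.ofAdd ((hne _ v.2.1 v.2.2).trans (hne _ w.2.1 w.2.2).symm))
    rw [hVc, h1, mul_one] at hb
    have h3 := Nat.le_of_dvd (by omega) hq1
    have : (q + 1) * 3 ≤ (q + 1) * (q - 1) := Nat.mul_le_mul_left _ (by omega)
    rw [← sq_sub_one] at this
    omega
  obtain ⟨v₀, hv₀, hv₀e, hv₀0⟩ := hne
  set x := S.pv v₀ with hx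
  have hxn := hπ v₀ hv₀ hv₀e hv₀0
  rw [← hx] at hxn
  set P : Polynomial F := Polynomial.X ^ 2 + Polynomial.X + Polynomial.C 1 with hP
  have hP0 : P ≠ 0 := fun h => by
    have := congrArg (fun Q => Polynomial.coeff Q 0) h
    simp [hP] at this
  have hval : ∀ v ∈ H, v ∈ S.P.eichGroup →
      S.pv v = 0 ∨ S.pv v / x = 1 ∨ (S.pv v / x) ^ 2 + S.pv v / x + 1 = 0 := by
    intro v hv hve
    rcases eq_or_ne (S.pv v) 0 with h | h
    · exact Or.inl h
    rcases eq_or_ne (S.pv v + x) 0 with h' | h'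
    · exact Or.inr (Or.inl (by rw [div_eq_one_iff_eq hv₀0, ← CharTwo.add_eq_zero, h']))
    refine Or.inr (Or.inr ?_)
    have e1 := hπ v hv hve h
    have e2 := hπ (v * v₀) (mul_mem hv hv₀) (mul_mem hve hv₀e) (by rw [(S.eich_mul hve hv₀e).1]; exact h')
    rw [(S.eich_mul hve hv₀e).1, ← hx, map_add] at e2
    have hbx : C.bar x ≠ 0 := by simpa using hv₀0
    set y := S.pv v
    have key : x * (C.bar x * (y ^ 2 + y * x + x ^ 2)) = 0 := by
      linear_combination (x * y) * e2 - (x * y + x ^ 2) * e1 + x ^ 2 * hxn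
    have hkey2 : y ^ 2 + y * x + x ^ 2 = 0 :=
      (mul_eq_zero.1 ((mul_eq_zero.1 key).resolve_left hv₀0)).resolve_left hbx
    field_simp
    linear_combination hkey2
  have hrange : Nat.card π.range ≤ 4 := by
    set T : Finset F := insert 0 (insert x (P.roots.toFinset.image (· * x)))
    refine le_trans (Nat.card_le_card_of_injective
      (fun w : π.range => (⟨Multiplicative.toAdd w.1, ?_⟩ : {c // c ∈ T}))
      fun w w' h => Subtype.ext (Multiplicative.toAdd.injective (congrArg (fun c : {c // c ∈ T} => c.1) h))) ?_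
    · obtain ⟨_, v, rfl⟩ := w
      show S.pv v.1 ∈ T
      rcases hval v.1 v.2.1 v.2.2 with h | h | h
      · exact Finset.mem_insert.2 (Or.inl h)
      · exact Finset.mem_insert.2 (Or.inr (Finset.mem_insert.2 (Or.inl ((div_eq_one_iff_eq hv₀0).1 h))))
      · refine Finset.mem_insert.2 (Or.inr (Finset.mem_insert.2 (Or.inr (Finset.mem_image.2
          ⟨_, Multiset.mem_toFinset.2 ((Polynomial.mem_roots hP0).2 ?_), div_mul_cancel₀ _ hv₀0⟩))))
        simp only [hP, Polynomial.IsRoot.def, Polynomial.eval_add, Polynomial.eval_pow, Polynomial.eval_X,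
          Polynomial.eval_C]
        exact h
    · rw [Nat.card_eq_fintype_card, Fintype.card_coe]
      have hd : P.natDegree ≤ 2 := by rw [hP]; compute_degree
      have h1 := (Finset.card_image_le (f := (· * x))).trans
        ((Multiset.toFinset_card_le _).trans ((Polynomial.card_roots' P).trans hd))
      refine (Finset.card_insert_le _ _).trans (Nat.add_le_add_right ((Finset.card_insert_le _ _).trans
        (Nat.add_le_add_right h1 1)) 1)
  have ht9 : S.tval H ∣ 9 := by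
    obtain ⟨hce, hcp, -⟩ := S.conj_coords (S.mem_stab_iff.1 hg.2) hv₀e
    rw [← hord]
    refine orderOf_dvd_of_pow_eq_one ?_
    have ha0 : a ≠ 0 := S.rat_ne_zero hg.2
    have hn : a * C.bar a = 1 := hnorm g hg
    set μ := C.bar a ^ 2 / a with hμ
    have hμ3 : μ ^ 3 = 1 := by
      rcases hval _ (mul_mem (mul_mem hg.1 hv₀) (inv_mem hg.1)) hce with h | h | h
      · rw [hcp] at h
        rcases mul_eq_zero.1 h with h | h
        · exact absurd h (div_ne_zero (pow_ne_zero 2 (by simpa using ha0)) ha0)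
        · exact absurd h hv₀0
      · rw [hcp, ← hx, mul_div_assoc, div_self hv₀0, mul_one] at h
        rw [h, one_pow]
      · rw [hcp, ← hx, mul_div_assoc, div_self hv₀0, mul_one] at h
        linear_combination (μ - 1) * h
    have hba : C.bar a = a⁻¹ := eq_inv_of_mul_eq_one_right hn
    rw [hμ, hba] at hμ3
    field_simp at hμ3
    linear_combination -hμ3
  have hV8 : Nat.card ↥V ≤ 8 := by omega
  have hVt : q ^ 2 - 1 ≤ 8 * S.tval H := hb.trans (Nat.mul_le_mul_right _ hV8)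
  have ht9' := Nat.le_of_dvd (by norm_num) ht9
  have hq8 : q ≤ 8 := by
    by_contra h
    have : 9 * 9 ≤ q * q := Nat.mul_le_mul (by omega) (by omega)
    rw [sq] at hVt
    omega
  have hq' : q = 4 ∨ q = 8 := by
    rcases Nat.lt_or_ge f 4 with h | h
    · interval_cases f <;> norm_num at hqp <;> omega
    · have := Nat.pow_le_pow_right (show 1 ≤ 2 by norm_num) h
      norm_num at this
      omega
  obtain ⟨c, hc⟩ := ht9
  rw [S.card_bgrp]
  change q = 8 ∧ Nat.card ↥V * S.tval H = 72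
  generalize Nat.card ↥V = n at *
  generalize S.tval H = t at *
  rcases hq' with rfl | rfl
  · exfalso
    obtain ⟨d, hd⟩ := hq1
    norm_num at hb hd hVt
    interval_cases t <;> omega
  · refine ⟨rfl, ?_⟩
    norm_num at hb hVt
    interval_cases t <;> omega

include S in
/-- Three transvections at a point over the field with eighty-one elements. -/
theorem nine_case (hF : Fintype.card F = q ^ 2) (hq : q = 9) [CharP F 3] [Fact (Nat.Prime 3)]
    (hw : Nat.card ↥(S.wgrp H) = 3) :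
    ∃ a t, a ≤ 6 ∧ t ∣ 20 ∧ Nat.card ↥(S.bgrp H) = 3 ^ a * t := by
  classical
  obtain ⟨k, hk⟩ := ((S.P.isPGroup_eichGroup 3).to_le (inf_le_right : H ⊓ S.P.eichGroup ≤ _)).exists_card_eq
  refine ⟨k, S.tval H, ?_, ?_, by rw [S.card_bgrp, hk]⟩
  · have h1 : Nat.card ↥(H ⊓ S.P.eichGroup) ∣ 729 * 80 := by
      have h := (Subgroup.card_dvd_of_le (show H ⊓ S.P.eichGroup ≤ MulAction.stabilizer G3 (pt S.P) from
        fun g hg => S.eich_smul hg.2)).trans (card_stab hF (pt S.P)).dvd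
      exact h.trans (by rw [hq]; norm_num)
    rw [hk] at h1
    by_contra h
    exact absurd ((pow_dvd_pow 3 (show 7 ≤ k by omega)).trans h1) (by norm_num)
  obtain ⟨g, hg, hord⟩ := S.exists_rat_orderOf H
  rw [← hord]
  refine orderOf_dvd_of_pow_eq_one ?_
  haveI : Nontrivial ↥(S.wgrp H) := Finite.one_lt_card_iff_nontrivial.1 (by omega)
  obtain ⟨z, hz1⟩ := exists_ne (1 : ↥(S.wgrp H))
  obtain ⟨z0, ze, zp⟩ := (S.mem_wgrp H).1 z.2
  obtain ⟨h1, h3⟩ := wgrp_conj H S hg z.2
  obtain ⟨i, hi⟩ := mem_powers_of_prime_card (G := ↥(S.wgrp H)) (g' := ⟨_, h1⟩) hw hz1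
  have hpow : ∀ n : ℕ, S.tauv (z.1 ^ n) = (n : F) * S.tauv z.1 := by
    intro n
    induction n with
    | zero => rw [pow_zero, S.tauv_one, Nat.cast_zero, zero_mul]
    | succ n ih =>
      rw [pow_succ, (S.eich_mul (pow_mem ze n) ze).2, ih, zp, zero_mul, sub_zero, Nat.cast_succ, add_mul, one_mul]
  have hi' : z.1 ^ i = g * z.1 * g⁻¹ := congrArg Subtype.val hi
  rw [← hi', hpow] at h3
  set a := S.rat g
  have hτ : S.tauv z.1 ≠ 0 := fun h => hz1 (Subtype.ext (S.eq_one_of_coords ze zp h))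
  have hn := mul_right_cancel₀ hτ h3
  have hne : (i : F) ≠ 0 := fun h => by
    rw [h, eq_comm, mul_eq_zero] at hn
    rcases hn with hn | hn
    · exact S.rat_ne_zero hg.2 hn
    · exact S.rat_ne_zero hg.2 (by simpa using hn)
  have h2 : (i : F) ^ 2 = 1 := by
    have hz : ((i : ZMod 3)) ≠ 0 := fun h => hne (by
      rw [ZMod.natCast_eq_zero_iff] at h
      exact (CharP.cast_eq_zero_iff F 3 i).2 h)
    have := ZMod.pow_card_sub_one_eq_one hz
    calc (i : F) ^ 2 = ZMod.castHom dvd_rfl F ((i : ZMod 3) ^ 2) := by rw [map_pow, map_natCast]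
      _ = 1 := by rw [this, map_one]
  rw [hn, norm_eq_pow, ← pow_mul, hq] at h2
  exact h2

end CfsgLib.PGroup.UnitThreeIndex
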